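import Groth.Agent.L28.Serre.Step
import Groth.Agent.L05.CurveNorm.Scheme
import Mathlib.GroupTheory.Sylow
import Mathlib.GroupTheory.PGroup
import Mathlib.FieldTheory.SeparableClosure
import Mathlib.FieldTheory.PurelyInseparable.Basic
import Mathlib.NumberTheory.Cyclotomic.Basic

/-! # Serre's theorem on the cohomological dimension of finite extensions of fields -/

set_option autoImplicit false
set_option linter.style.haveILetI false
set_option linter.unusedSectionVars false
set_option backward.isDefEq.respectTransparency.types false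

universe u

open CategoryTheory CategoryTheory.Limits AlgebraicGeometry Opposite
open scoped IntermediateField

noncomputable section

namespace Groth.L28.Serre

open FieldTower (CdLE)

variable {ℓ : ℕ}

theorem not_orderable_of_hom {K L : Type u} [Field K] [Field L] (f : K →+* L)
    (h : ¬ ∃ _ : LinearOrder K, IsStrictOrderedRing K) : ¬ ∃ _ : LinearOrder L, IsStrictOrderedRing L := by
  rintro ⟨o, ho⟩
  letI := o
  haveI := ho
  exact h ⟨LinearOrder.lift' f f.injective,
    letI := LinearOrder.lift' f f.injective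
    Function.Injective.isStrictOrderedRing f (map_zero f) (map_one f) (map_add f) (map_mul f)
      Iff.rfl Iff.rfl⟩

/-- Fields over which every step of degree `ℓ` descends. -/
def Good (ℓ : ℕ) (K : Type u) [Field K] : Prop :=
  (ℓ : K) = 0 ∨ (ℓ = 2 ∧ ¬ ∃ _ : LinearOrder K, IsStrictOrderedRing K) ∨
    (ℓ ≠ 2 ∧ (primitiveRoots (ℓ ^ 2) K).Nonempty)

theorem Good.of_hom (hℓ : ℓ.Prime) {K L : Type u} [Field K] [Field L] (f : K →+* L) (h : Good ℓ K) : Good ℓ L := by
  rcases h with h | ⟨h2, h⟩ | ⟨h2, ζ, hζ⟩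
  · exact Or.inl (by rw [← map_natCast f, h, map_zero])
  · exact Or.inr (Or.inl ⟨h2, not_orderable_of_hom f h⟩)
  · rw [mem_primitiveRoots (pow_pos hℓ.pos 2)] at hζ
    exact Or.inr (Or.inr ⟨h2, f ζ, (mem_primitiveRoots (pow_pos hℓ.pos 2)).2 (hζ.map_of_injective f.injective)⟩)

theorem Good.step (hℓ : ℓ.Prime) {K L : Type u} [Field K] [Field L] [Algebra K L] [FiniteDimensional K L]
    [IsGalois K L] (hg : Good ℓ K) (hL : Module.finrank K L = ℓ) {d : ℕ}
    (h : CdLE ℓ (Spec (CommRingCat.of L)) d) : CdLE ℓ (Spec (CommRingCat.of K)) d := by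
  haveI : Fact ℓ.Prime := ⟨hℓ⟩
  haveI : IsCyclic (L ≃ₐ[K] L) := isCyclic_of_prime_card (p := ℓ) (by rw [IsGalois.card_aut_eq_finrank, hL])
  by_cases hK : (ℓ : K) = 0
  · exact step_char hℓ hK h
  rcases hg with hg | ⟨h2, hg⟩ | ⟨h2, hg⟩
  · exact absurd hg hK
  · subst h2
    haveI : NeZero (2 : K) := ⟨by exact_mod_cast hK⟩
    exact step_two hL hg h
  · exact step_odd hℓ h2 hK hL (Or.inl hg) h

/-- Descent along Galois extensions of prime power degree. -/
theorem descend_pow (hℓ : ℓ.Prime) : ∀ (n : ℕ) (K N : Type u) [Field K] [Field N] [Algebra K N]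
    [FiniteDimensional K N] [IsGalois K N], Good ℓ K → Module.finrank K N = ℓ ^ n →
    ∀ {d : ℕ}, CdLE ℓ (Spec (CommRingCat.of N)) d → CdLE ℓ (Spec (CommRingCat.of K)) d := by
  haveI : Fact ℓ.Prime := ⟨hℓ⟩
  intro n
  induction n with
  | zero =>
    intro K N _ _ _ _ _ _ hdeg d h
    rw [pow_zero] at hdeg
    let e : K ≃+* N := RingEquiv.ofBijective (algebraMap K N)
      (Algebra.bijective_algebraMap_iff.2 (Subalgebra.bot_eq_top_iff_finrank_eq_one.2 hdeg).symm)
    let π := Spec.map (CommRingCat.ofHom (e.symm : N →+* K))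
    haveI : IsIntegralHom π := IsIntegralHom.SpecMap_iff.2 (RingHom.isIntegral_of_surjective _ e.symm.surjective)
    exact h.of_integral π
  | succ n ih =>
    intro K N _ _ _ _ _ hg hdeg d h
    let G := N ≃ₐ[K] N
    have hcard : Nat.card G = ℓ ^ (n + 1) := by rw [IsGalois.card_aut_eq_finrank, hdeg]
    have hG : IsPGroup ℓ G := IsPGroup.of_card hcard
    haveI : Nontrivial G := (Finite.one_lt_card_iff_nontrivial).1 (by rw [hcard]; exact Nat.one_lt_pow (Nat.succ_ne_zero n) hℓ.one_lt)
    haveI := hG.center_nontrivial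
    have hdvd : ℓ ∣ Nat.card (Subgroup.center G) := by
      obtain ⟨k, hk⟩ := (hG.to_subgroup (Subgroup.center G)).exists_card_eq
      rcases k with _ | k
      · exact absurd hk (by
          have := Finite.one_lt_card (α := Subgroup.center G)
          rw [pow_zero]; omega)
      · exact ⟨ℓ ^ k, by rw [hk, pow_succ']⟩
    obtain ⟨z, hz⟩ := exists_prime_orderOf_dvd_card' (G := Subgroup.center G) ℓ hdvd
    let H : Subgroup G := Subgroup.zpowers (z : G)
    haveI : H.Normal := ⟨fun x hx g => by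
      obtain ⟨k, rfl⟩ := Subgroup.mem_zpowers_iff.1 hx
      have hc : (z : G) ^ k ∈ Subgroup.center G := Subgroup.zpow_mem _ z.2 k
      rw [Subgroup.mem_center_iff.1 hc g, mul_assoc, mul_inv_cancel, mul_one]
      exact hx⟩
    let M := IntermediateField.fixedField H
    haveI : IsGalois K M := IsGalois.of_fixedField_normal_subgroup H
    have hNM : Module.finrank M N = ℓ := by
      rw [IntermediateField.finrank_fixedField_eq_card, Nat.card_zpowers, ← Subgroup.orderOf_coe] at *
      exact hz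
    have hMK : Module.finrank K M = ℓ ^ n := by
      have := Module.finrank_mul_finrank K M N
      rw [hNM, hdeg, pow_succ] at this
      exact Nat.eq_of_mul_eq_mul_right hℓ.pos this
    exact ih K M hg hMK ((hg.of_hom hℓ (algebraMap K M)).step hℓ hNM h)

theorem vanish_of_cdLE (hℓ : ℓ.Prime) {K : Type u} [Field K] {d : ℕ} (h : CdLE ℓ (Spec (CommRingCat.of K)) d)
    (F : EtCoh.Ab (Spec (CommRingCat.of K))) (hF : EtCoh.IsTorsion F) (q : ℕ) (hq : d < q)
    (y : EtCoh.H (Spec (CommRingCat.of K)) F q) (hy : ∃ m : ℕ, ℓ ^ m • y = 0) : y = 0 := by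
  haveI : Fact ℓ.Prime := ⟨hℓ⟩
  exact FieldCd.eq_zero_of_torsion ℓ q hℓ (fun a G hG z => (h G (Groth.L27.DerBC.Killed.isLTorsion
    ⟨ℓ ^ a, FinCovCrit.primesIn_pow hℓ a, hG⟩) q hq).elim _ _) F hF y hy

theorem isPrimitiveRoot_pow_of_sq {K : Type u} [Field K] {ζ : K} (hℓ : ℓ.Prime) (h : IsPrimitiveRoot ζ (ℓ ^ 2)) :
    IsPrimitiveRoot (ζ ^ ℓ) ℓ :=
  h.pow (pow_pos hℓ.pos 2) (by rw [pow_two])

set_option maxHeartbeats 1000000 in
/-- Serre's theorem for Galois extensions containing enough roots of unity. -/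
theorem descend_galois (hℓ : ℓ.Prime) (K N : Type u) [Field K] [Field N] [Algebra K N] [FiniteDimensional K N]
    [IsGalois K N] (hord : ℓ ≠ 2 ∨ ¬ ∃ _ : LinearOrder K, IsStrictOrderedRing K)
    (hN : (ℓ : K) = 0 ∨ ℓ = 2 ∨ ∃ ζ : N, IsPrimitiveRoot ζ (ℓ ^ 2)) {d : ℕ}
    (h : CdLE ℓ (Spec (CommRingCat.of N)) d) : CdLE ℓ (Spec (CommRingCat.of K)) d := by
  haveI : Fact ℓ.Prime := ⟨hℓ⟩
  let G := N ≃ₐ[K] N
  let P : Sylow ℓ G := default
  let K' := IntermediateField.fixedField (P : Subgroup G)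
  obtain ⟨k, hk⟩ := (P.isPGroup').exists_card_eq
  have hNK' : Module.finrank K' N = ℓ ^ k := by rw [IntermediateField.finrank_fixedField_eq_card, hk]
  have hndvd : ¬ ℓ ∣ Module.finrank K K' := by
    have h1 : Module.finrank K K' = (P : Subgroup G).index := by
      refine Nat.eq_of_mul_eq_mul_right (pow_pos hℓ.pos k) ?_
      have h2 := Subgroup.index_mul_card (P : Subgroup G)
      rw [hk] at h2
      rw [h2, IsGalois.card_aut_eq_finrank, ← Module.finrank_mul_finrank K K' N, hNK']
    rw [h1]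
    exact P.not_dvd_index
  haveI : Algebra.IsSeparable K K' := inferInstance
  suffices hK' : CdLE ℓ (Spec (CommRingCat.of K')) d by
    refine cdLE_of_killed hℓ K d fun C hC => subsingleton_of_forall_eq 0 fun x => ?_
    refine Groth.L28.EtTrace.cd_le_of_prime_to_degree K K' ℓ hndvd d (fun F hF q hq y hy => ?_) C
      (Groth.L27.AffineEfface.isTorsion_of_isLTorsion
        (Groth.L27.DerBC.Killed.isLTorsion ⟨ℓ ^ 1, FinCovCrit.primesIn_pow hℓ 1, by rwa [pow_one]⟩))
      (d + 1) (by omega) x ⟨1, ?_⟩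
    · exact vanish_of_cdLE hℓ hK' F hF q hq y hy
    · rw [pow_one]
      exact (Groth.L28.EtTrace.comp_mk₀_nsmul ℓ (d + 1) x).symm.trans
        (by rw [hC, Abelian.Ext.mk₀_zero, Abelian.Ext.comp_zero])
  have hinj : Function.Injective (algebraMap K K') := (algebraMap K K').injective
  by_cases hK0 : (ℓ : K) = 0
  · exact descend_pow hℓ k K' N (Or.inl (by rw [← map_natCast (algebraMap K K'), hK0, map_zero])) hNK' h
  by_cases h2 : ℓ = 2
  · exact descend_pow hℓ k K' N
      (Or.inr (Or.inl ⟨h2, not_orderable_of_hom (algebraMap K K') (hord.resolve_left (not_not.2 h2))⟩)) hNK' h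
  obtain ⟨ζ, hζ⟩ := (hN.resolve_left hK0).resolve_left h2
  have hη : IsPrimitiveRoot (ζ ^ ℓ) ℓ := isPrimitiveRoot_pow_of_sq hℓ hζ
  have hfix : ζ ^ ℓ ∈ K' := by
    rw [IntermediateField.mem_fixedField_iff]
    intro g hg
    obtain ⟨j, hj⟩ := P.isPGroup' ⟨g, hg⟩
    have hj' : g ^ ℓ ^ j = 1 := congrArg Subtype.val hj
    haveI : NeZero ℓ := ⟨hℓ.ne_zero⟩
    have hu : hη.autToPow K g = 1 := by
      have h1 := congrArg (hη.autToPow K) hj'
      rw [map_pow, map_one] at h1
      refine Units.ext ?_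
      have h2 := congrArg Units.val h1
      rw [Units.val_pow_eq_pow_val, Units.val_one, ZMod.pow_card_pow] at h2
      rw [h2]; rfl
    rw [← hη.autToPow_spec K g, hu, Units.val_one, ZMod.val_one, pow_one]
  let η : K' := ⟨ζ ^ ℓ, hfix⟩
  have hηp : IsPrimitiveRoot η ℓ := IsPrimitiveRoot.of_map_of_injective (f := algebraMap K' N) hη (algebraMap K' N).injective
  by_cases hex : ∃ b : K', b ^ ℓ = η
  · obtain ⟨b, hb⟩ := hex
    refine descend_pow hℓ k K' N (Or.inr (Or.inr ⟨h2, b, ?_⟩)) hNK' h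
    rw [mem_primitiveRoots (pow_pos hℓ.pos 2), IsPrimitiveRoot.iff_orderOf]
    refine orderOf_eq_prime_pow (fun h0 => ?_) ?_
    · rw [pow_one, hb] at h0
      exact hηp.ne_one hℓ.one_lt h0
    · rw [pow_two, pow_mul, hb, hηp.pow_eq_one]
  push Not at hex
  let M : IntermediateField K' N := IntermediateField.adjoin K' {ζ}
  let α : M := ⟨ζ, IntermediateField.mem_adjoin_simple_self K' ζ⟩
  have hα : α ^ ℓ = algebraMap K' M η := Subtype.ext rfl
  have hirr : Irreducible (Polynomial.X ^ ℓ - Polynomial.C η) := X_pow_sub_C_irreducible_of_prime hℓ hex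
  have hint : IsIntegral K' ζ := IsIntegral.of_finite K' ζ
  have hmin : minpoly K' ζ = Polynomial.X ^ ℓ - Polynomial.C η :=
    (minpoly.eq_of_irreducible_of_monic hirr (by simp [show algebraMap K' N η = ζ ^ ℓ from rfl])
      (Polynomial.monic_X_pow_sub_C _ hℓ.ne_zero)).symm
  have hM : Module.finrank K' M = ℓ := by
    rw [IntermediateField.adjoin.finrank hint, hmin, Polynomial.natDegree_X_pow_sub_C]
  have htop : IntermediateField.adjoin K' {α} = ⊤ := by
    refine IntermediateField.map_injective M.val ?_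
    rw [IntermediateField.adjoin_map, ← AlgHom.fieldRange_eq_map, IntermediateField.fieldRange_val, Set.image_singleton]
    rfl
  have hroots : (primitiveRoots (Module.finrank K' M) K').Nonempty :=
    ⟨η, by rw [hM, mem_primitiveRoots hℓ.pos]; exact hηp⟩
  haveI : IsGalois K' M := by
    haveI := isSplittingField_X_pow_sub_C_of_root_adjoin_eq_top hroots (a := η) (α := α) (by rw [hM, hα]) htop
    exact isGalois_of_isSplittingField_X_pow_sub_C hroots
      (irreducible_X_pow_sub_C_of_root_adjoin_eq_top (by rw [hM, hα]) htop) M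
  have hgM : Good ℓ M := Or.inr (Or.inr ⟨h2, α, by
    rw [mem_primitiveRoots (pow_pos hℓ.pos 2)]
    exact IsPrimitiveRoot.of_map_of_injective (f := M.val) hζ M.val.injective⟩)
  obtain ⟨j, -, hj⟩ := (Nat.dvd_prime_pow hℓ).1 (show Module.finrank M N ∣ ℓ ^ k from
    Dvd.intro_left _ ((Module.finrank_mul_finrank K' M N).trans hNK'))
  have hMcd : CdLE ℓ (Spec (CommRingCat.of M)) d := descend_pow hℓ j M N hgM hj h
  exact step_odd hℓ h2 (fun h0 => hK0 (hinj (by rw [map_natCast, h0, map_zero]))) hM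
    (Or.inr ⟨η, α, hηp, hα, htop⟩) hMcd

set_option maxHeartbeats 1000000 in
/-- Serre's theorem: cohomological dimension descends along finite extensions of nonorderable fields. -/
theorem cdLE_of_finite_extension (hℓ : ℓ.Prime) (K F : Type u) [Field K] [Field F] (f : K →+* F) (hf : f.Finite)
    (hord : ℓ ≠ 2 ∨ ¬ ∃ _ : LinearOrder K, IsStrictOrderedRing K) {d : ℕ}
    (h : CdLE ℓ (Spec (CommRingCat.of F)) d) : CdLE ℓ (Spec (CommRingCat.of K)) d := by
  letI := f.toAlgebra
  haveI : FiniteDimensional K F := hf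
  let Ω := AlgebraicClosure F
  haveI : IsAlgClosure K Ω := ⟨inferInstance, Algebra.IsAlgebraic.trans K F Ω⟩
  haveI : Normal K Ω := IsAlgClosure.normal K Ω
  let F₀ : IntermediateField K Ω := (IsScalarTower.toAlgHom K F Ω).fieldRange
  haveI : FiniteDimensional K F₀ :=
    Module.Finite.of_surjective (IsScalarTower.toAlgHom K F Ω).rangeRestrict.toLinearMap
      (IsScalarTower.toAlgHom K F Ω).rangeRestrict_surjective
  obtain ⟨E, hE, hF₀E, hζ⟩ : ∃ (E : IntermediateField K Ω) (_ : FiniteDimensional K E), F₀ ≤ E ∧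
      ((ℓ : K) = 0 ∨ ∃ ζ : Ω, IsPrimitiveRoot ζ (ℓ ^ 2) ∧ ζ ∈ E) := by
    by_cases h0 : (ℓ : K) = 0
    · exact ⟨F₀, inferInstance, le_rfl, Or.inl h0⟩
    · haveI : NeZero ((ℓ ^ 2 : ℕ) : Ω) := ⟨fun e => h0 ((algebraMap K Ω).injective (by
        rw [map_natCast, map_zero]; exact pow_eq_zero_iff two_ne_zero |>.1 (by simpa using e)))⟩
      obtain ⟨ζ, hζ⟩ := HasEnoughRootsOfUnity.exists_primitiveRoot Ω (ℓ ^ 2)
      haveI : FiniteDimensional K (IntermediateField.adjoin K {ζ}) :=
        IntermediateField.adjoin.finiteDimensional (Algebra.IsIntegral.isIntegral ζ)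
      exact ⟨F₀ ⊔ IntermediateField.adjoin K {ζ}, IntermediateField.finiteDimensional_sup _ _, le_sup_left,
        Or.inr ⟨ζ, hζ, (le_sup_right : IntermediateField.adjoin K {ζ} ≤ _) (IntermediateField.mem_adjoin_simple_self K ζ)⟩⟩
  let N : IntermediateField K Ω := IntermediateField.normalClosure K E Ω
  haveI : FiniteDimensional K N := inferInstance
  haveI : Normal K N := inferInstance
  have hEN : E ≤ N := E.le_normalClosure
  have hNcd : CdLE ℓ (Spec (CommRingCat.of N)) d := by
    let g : F →ₐ[K] N := (IntermediateField.inclusion (hF₀E.trans hEN)).comp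
      (IsScalarTower.toAlgHom K F Ω).rangeRestrict
    refine CdLower.cdLE_of_finite F N g.toRingHom ?_ h
    letI := g.toRingHom.toAlgebra
    haveI : IsScalarTower K F N := IsScalarTower.of_algebraMap_eq fun r => (g.commutes r).symm
    exact Module.Finite.of_restrictScalars_finite K F N
  let S := separableClosure K N
  haveI : IsGalois K S := inferInstance
  haveI : IsPurelyInseparable S N := separableClosure.isPurelyInseparable K N
  have hScd : CdLE ℓ (Spec (CommRingCat.of S)) d := by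
    let π : Spec (CommRingCat.of N) ⟶ Spec (CommRingCat.of S) := Spec.map (CommRingCat.ofHom (algebraMap S N))
    haveI : IsIntegralHom π := IsIntegralHom.SpecMap_iff.2 (algebraMap_isIntegral_iff.2 inferInstance)
    haveI : UniversallyInjective π := Groth.L05.CurveNorm.universallyInjective_ext S N
    haveI : Surjective π := ⟨fun y => ⟨(default : Spec (CommRingCat.of N)),
      Subsingleton.elim (α := Spec (CommRingCat.of S)) _ _⟩⟩
    exact hNcd.of_radicial π
  refine descend_galois hℓ K S hord ?_ hScd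
  rcases hζ with h0 | ⟨ζ, hζ, hmem⟩
  · exact Or.inl h0
  refine Or.inr ?_
  by_cases h2 : ℓ = 2
  · exact Or.inl h2
  refine Or.inr ?_
  let ζN : N := ⟨ζ, hEN hmem⟩
  have hζN : IsPrimitiveRoot ζN (ℓ ^ 2) := IsPrimitiveRoot.of_map_of_injective (f := N.val) hζ N.val.injective
  have h0 : (ℓ : K) ≠ 0 := fun h0 => hℓ.ne_one (by
    have hp : (ℓ : N) = 0 := by rw [← map_natCast (algebraMap K N), h0, map_zero]
    haveI : CharP N ℓ := (CharP.charP_iff_prime_eq_zero hℓ).2 hp
    haveI : ExpChar N ℓ := ExpChar.prime hℓ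
    have h1 : ζN ^ ℓ ^ 2 = 1 := hζN.pow_eq_one
    have h2 : ζN = 1 := iterateFrobenius_inj N ℓ 2 (by rw [iterateFrobenius_def, iterateFrobenius_def, h1, one_pow])
    have := hζN
    rw [h2, IsPrimitiveRoot.one_left_iff] at this
    nlinarith [hℓ.two_le])
  have hsep : IsSeparable K ζN :=
    Polynomial.Separable.of_dvd (Polynomial.separable_X_pow_sub_C (n := ℓ ^ 2) (1 : K) (by rw [Nat.cast_pow]; exact pow_ne_zero _ h0) one_ne_zero)
      (minpoly.dvd K ζN (by simp [hζN.pow_eq_one]))
  exact ⟨⟨ζN, mem_separableClosure_iff.2 hsep⟩,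
    IsPrimitiveRoot.of_map_of_injective (f := S.val) hζN S.val.injective⟩

end Groth.L28.Serre
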