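import Groth.Agent.L28.Serre.RealExt
import Mathlib.FieldTheory.Galois.Basic
import Mathlib.FieldTheory.IsSepClosed
import Mathlib.GroupTheory.Sylow
import Mathlib.FieldTheory.Normal.Closure
import Mathlib.RingTheory.Norm.Basic

/-! # Adjoining a square root of minus one to a maximal semireal field -/

set_option autoImplicit false
set_option linter.style.haveILetI false
set_option linter.unusedSectionVars false

universe u

open Polynomial
open scoped IntermediateField

noncomputable section

namespace Groth.L28.Serre.RealExt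

variable {R Ω : Type u} [Field R] [IsSemireal R] [Field Ω] [Algebra R Ω] [Algebra.IsAlgebraic R Ω] [IsAlgClosed Ω]

theorem exists_quad (i : Ω) (hi : i * i = -1) (z : R⟮i⟯) :
    ∃ a b : R, (z : Ω) = algebraMap R Ω a + algebraMap R Ω b * i :=
  exists_form (-1 : R) i (by rw [hi, map_neg, map_one]) z

/-- After adjoining `i` every element is a square. -/
theorem isSquare_adjoin_i (hm : Maximal R Ω) (i : Ω) (hi : i * i = -1) (z : R⟮i⟯) : IsSquare z := by
  obtain ⟨a, b, hz⟩ := exists_quad i hi z
  have hsq : ∀ x : R, IsSquare x → ∃ w : R⟮i⟯, (w : Ω) * w = algebraMap R Ω x := fun x ⟨r, hr⟩ =>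
    ⟨algebraMap R R⟮i⟯ r, by rw [hr, map_mul]; rfl⟩
  suffices ∃ w : R⟮i⟯, (w : Ω) * w = z by
    obtain ⟨w, hw⟩ := this
    exact ⟨w, Subtype.ext hw.symm⟩
  by_cases hb : b = 0
  · rw [hz, hb, map_zero, zero_mul, add_zero]
    rcases hm.isSquare_or a with h | ⟨r, hr⟩
    · exact hsq a h
    · refine ⟨⟨algebraMap R Ω r * i, mul_mem (IntermediateField.algebraMap_mem _ r)
        (IntermediateField.mem_adjoin_simple_self R i)⟩, ?_⟩
      show algebraMap R Ω r * i * (algebraMap R Ω r * i) = _
      rw [show a = -(r * r) by linear_combination -hr, map_neg, map_mul]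
      linear_combination (algebraMap R Ω r * algebraMap R Ω r) * hi
  obtain ⟨r₀, hr₀⟩ := hm.isSquare_of_sumSq ((IsSumSq.mul_self a).add (IsSumSq.mul_self b))
  obtain ⟨r, hr, hrsq⟩ : ∃ r : R, r * r = a * a + b * b ∧ IsSquare r := by
    rcases hm.isSquare_or r₀ with h | h
    · exact ⟨r₀, hr₀.symm, h⟩
    · exact ⟨-r₀, by rw [neg_mul_neg, hr₀], h⟩
  have h2 : (2 : R) ≠ 0 := two_ne_zero
  -- the half sum is a square
  obtain ⟨x, hx⟩ : IsSquare ((r + a) / 2) := by
    rcases hm.isSquare_or ((r + a) / 2) with h | ⟨y, hy⟩
    · exact h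
    exfalso
    have hy0 : y ≠ 0 := fun e => by
      rw [e, mul_zero, neg_eq_zero, div_eq_zero_iff] at hy
      have : r = -a := eq_neg_of_add_eq_zero_left (hy.resolve_right h2)
      exact hb (mul_self_eq_zero.1 (by rw [this] at hr; linear_combination -hr))
    -- `r - a` is then minus a square, so is `r`, a contradiction
    obtain ⟨w, hw⟩ := hrsq
    have hs : IsSumSq (w * w + (y * y + (b / (2 * y)) * (b / (2 * y)))) :=
      (IsSumSq.mul_self _).add ((IsSumSq.mul_self _).add (IsSumSq.mul_self _))
    have e0 : w * w + (y * y + (b / (2 * y)) * (b / (2 * y))) = 0 := by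
      rw [← hw]
      have hy' : (r + a) = -(2 * (y * y)) := by
        field_simp at hy
        linear_combination -hy
      field_simp
      rw [hy'.symm.trans (show r + a = a + r by ring) |> fun _ => (show a = -(2 * (y * y)) - r by linear_combination hy')] at hr
      linear_combination -hr
    have hw0 : w = 0 := eq_zero_of_add ((IsSumSq.mul_self _).add (IsSumSq.mul_self _)) e0
    rw [hw0, mul_zero] at hw
    rw [hw, mul_zero] at hr
    exact hb (eq_zero_of_add (IsSumSq.mul_self a) (by linear_combination -hr))
  have hx0 : x ≠ 0 := fun e => by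
    rw [e, mul_zero, div_eq_zero_iff] at hx
    have : r = -a := eq_neg_of_add_eq_zero_left (hx.resolve_right h2)
    exact hb (mul_self_eq_zero.1 (by rw [this] at hr; linear_combination -hr))
  let y := b / (2 * x)
  refine ⟨⟨algebraMap R Ω x + algebraMap R Ω y * i, add_mem (IntermediateField.algebraMap_mem _ x)
    (mul_mem (IntermediateField.algebraMap_mem _ y) (IntermediateField.mem_adjoin_simple_self R i))⟩, ?_⟩
  show (algebraMap R Ω x + algebraMap R Ω y * i) * (algebraMap R Ω x + algebraMap R Ω y * i) = _
  have e1 : x * x - y * y = a := by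
    simp only [y]
    field_simp at hx ⊢
    linear_combination (x ^ 2 * 2 + a + r - 2 * a) * (-hx) + hr
  have e2 : 2 * x * y = b := by simp only [y]; field_simp
  rw [hz, ← e1, ← e2, map_sub, map_mul, map_mul, map_mul, map_mul, map_ofNat]
  linear_combination (algebraMap R Ω y * algebraMap R Ω y) * hi

/-- An odd degree finite subextension is trivial. -/
theorem finrank_eq_one_of_odd (hm : Maximal R Ω) (E : IntermediateField R Ω) [FiniteDimensional R E]
    (hE : Odd (Module.finrank R E)) : E = ⊥ := by
  refine le_bot_iff.1 fun x hx => ?_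
  refine IntermediateField.mem_bot.2 (hm.natDegree_eq_one x ?_)
  rw [← IntermediateField.minpoly_eq (⟨x, hx⟩ : E)]
  exact Odd.of_dvd_nat hE (minpoly.degree_dvd (IsIntegral.of_finite R _))

set_option maxHeartbeats 1000000 in
/-- `R(i)` is separably closed. -/
theorem isSepClosed_adjoin_i (hm : Maximal R Ω) (i : Ω) (hi : i * i = -1) : IsSepClosed R⟮i⟯ := by
  haveI : IsAlgClosure R Ω := ⟨inferInstance, inferInstance⟩
  haveI : Normal R Ω := IsAlgClosure.normal R Ω
  haveI : CharZero R := inferInstance
  haveI : Fact (Nat.Prime 2) := ⟨Nat.prime_two⟩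
  have hall : ∀ x : Ω, x ∈ R⟮i⟯ := by
    intro x
    haveI : FiniteDimensional R R⟮i⟯ := IntermediateField.adjoin.finiteDimensional (Algebra.IsIntegral.isIntegral i)
    haveI : FiniteDimensional R R⟮x⟯ := IntermediateField.adjoin.finiteDimensional (Algebra.IsIntegral.isIntegral x)
    let E : IntermediateField R Ω := R⟮i⟯ ⊔ R⟮x⟯
    haveI : FiniteDimensional R E := IntermediateField.finiteDimensional_sup _ _
    let N : IntermediateField R Ω := IntermediateField.normalClosure R E Ω
    haveI : IsGalois R N := ⟨⟩
    have hEN : E ≤ N := E.le_normalClosure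
    have hiN : i ∈ N := hEN ((le_sup_left : R⟮i⟯ ≤ E) (IntermediateField.mem_adjoin_simple_self R i))
    have hxN : x ∈ N := hEN ((le_sup_right : R⟮x⟯ ≤ E) (IntermediateField.mem_adjoin_simple_self R x))
    let G := N ≃ₐ[R] N
    let P : Sylow 2 G := default
    have hP : (P : Subgroup G) = ⊤ := by
      let K' := IntermediateField.fixedField (P : Subgroup G)
      have h1 : Module.finrank R K' = (P : Subgroup G).index := by
        refine Nat.eq_of_mul_eq_mul_right (Nat.card_pos (α := (P : Subgroup G))) ?_
        rw [Subgroup.index_mul_card, IsGalois.card_aut_eq_finrank,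
          ← IntermediateField.finrank_fixedField_eq_card, Module.finrank_mul_finrank]
      have hodd : Odd (Module.finrank R K') := by
        rw [h1, ← Nat.not_even_iff_odd, even_iff_two_dvd]
        exact P.not_dvd_index
      let K'' : IntermediateField R Ω := K'.map N.val
      have hK'' : Module.finrank R K'' = Module.finrank R K' :=
        (IntermediateField.equivMap K' N.val).toLinearEquiv.finrank_eq.symm
      haveI : FiniteDimensional R K'' := Module.Finite.equiv (IntermediateField.equivMap K' N.val).toLinearEquiv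
      have h2 := finrank_eq_one_of_odd hm K'' (hK'' ▸ hodd)
      refine Subgroup.index_eq_one.1 ?_
      rw [← h1, ← hK'', h2, IntermediateField.finrank_bot]
    have hG : IsPGroup 2 G := (IsPGroup.iff_card.2 (by
      obtain ⟨k, hk⟩ := P.isPGroup'.exists_card_eq
      rw [hP, Subgroup.card_top] at hk
      exact ⟨k, hk⟩))
    let iN : N := ⟨i, hiN⟩
    let C : IntermediateField R N := R⟮iN⟯
    let H := C.fixingSubgroup
    suffices hH : H = ⊥ by
      have hC : C = ⊤ := by
        rw [← IsGalois.fixedField_fixingSubgroup C, show C.fixingSubgroup = ⊥ from hH, IntermediateField.fixedField_bot]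
      have hx : (⟨x, hxN⟩ : N) ∈ C := by rw [hC]; trivial
      have hmap : C.map N.val = R⟮i⟯ := by rw [IntermediateField.adjoin_map, Set.image_singleton]; rfl
      rw [← hmap]
      exact ⟨_, hx, rfl⟩
    by_contra hne
    obtain ⟨k, hk⟩ := (hG.to_subgroup H).exists_card_eq
    obtain ⟨k, rfl⟩ : ∃ j, k = j + 1 := ⟨k - 1, by
      rcases k with _ | k
      · exact absurd (Subgroup.card_eq_one.1 (by simpa using hk)) hne
      · rfl⟩
    obtain ⟨H', hH'card⟩ := Sylow.exists_subgroup_card_pow_prime (G := H) 2 (n := k) ⟨2, by rw [hk, pow_succ]⟩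
    let H'' : Subgroup G := H'.map H.subtype
    have hH''card : Nat.card H'' = 2 ^ k := by
      rw [Subgroup.card_map_of_injective H.subtype_injective, hH'card]
    let M := IntermediateField.fixedField H''
    have hCM : C ≤ M := (IntermediateField.le_iff_le H'' C).2 (Subgroup.map_subtype_le H')
    have hMN : Module.finrank M N = 2 ^ k := by rw [IntermediateField.finrank_fixedField_eq_card, hH''card]
    have hCN : Module.finrank C N = 2 ^ (k + 1) := by
      rw [← hk, IsGalois.card_fixingSubgroup_eq_finrank]
    letI : Algebra C M := (IntermediateField.inclusion hCM).toRingHom.toAlgebra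
    haveI : IsScalarTower C M N := IsScalarTower.of_algebraMap_eq fun _ => rfl
    have hCM2 : Module.finrank C M = 2 := by
      have := Module.finrank_mul_finrank C M N
      rw [hMN, hCN, pow_succ, mul_comm (2 ^ k)] at this
      exact Nat.eq_of_mul_eq_mul_right (pow_pos two_pos k) this
    haveI : FiniteDimensional C M := Module.finite_of_finrank_eq_succ hCM2
    have hsq : ∀ c : C, IsSquare c := fun c => by
      let e : C ≃ₐ[R] R⟮i⟯ := (IntermediateField.equivMap C N.val).trans
        (IntermediateField.equivOfEq (by rw [IntermediateField.adjoin_map, Set.image_singleton]; rfl))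
      obtain ⟨w, hw⟩ := isSquare_adjoin_i hm i hi (e c)
      exact ⟨e.symm w, by rw [← map_mul, ← hw, AlgEquiv.symm_apply_apply]⟩
    -- a quadratic extension of a quadratically closed field
    obtain ⟨α, hα⟩ : ∃ α : M, α ∉ Set.range (algebraMap C M) := by
      by_contra hsur
      push Not at hsur
      have := (Algebra.bijective_algebraMap_iff.1 ⟨(algebraMap C M).injective, hsur⟩)
      rw [eq_comm, Subalgebra.bot_eq_top_iff_finrank_eq_one] at this
      omega
    have hint : IsIntegral C α := IsIntegral.of_finite C α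
    have hdeg : (minpoly C α).natDegree = 2 := by
      have h1 : (minpoly C α).natDegree ≤ 2 := hCM2 ▸ minpoly.natDegree_le α
      have h2 : 2 ≤ (minpoly C α).natDegree := (minpoly.two_le_natDegree_iff hint).2 hα
      omega
    have hmp := minpoly.aeval C α
    rw [aeval_eq_sum_range, hdeg, Finset.sum_range_succ, Finset.sum_range_succ, Finset.sum_range_succ,
      Finset.sum_range_zero] at hmp
    have hlead : (minpoly C α).coeff 2 = 1 := by
      rw [← hdeg]; exact (minpoly.monic hint).coeff_natDegree
    simp only [hlead, pow_zero, pow_one, zero_add, Algebra.smul_def, mul_one, map_one, one_mul] at hmp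
    haveI : CharZero C := charZero_of_injective_algebraMap (algebraMap R C).injective
    let p := (minpoly C α).coeff 1
    let q := (minpoly C α).coeff 0
    obtain ⟨s, hs⟩ := hsq (p / 2 * (p / 2) - q)
    have hp : algebraMap C M p = algebraMap C M (p / 2) + algebraMap C M (p / 2) := by
      rw [← map_add, add_halves]
    have hkey : (α + algebraMap C M (p / 2)) * (α + algebraMap C M (p / 2)) = algebraMap C M s * algebraMap C M s := by
      rw [← map_mul, ← hs, map_sub, map_mul]
      linear_combination hmp - α * hp
    rcases mul_self_eq_mul_self_iff.1 hkey with h | h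
    · exact hα ⟨s - p / 2, by rw [map_sub, ← h, add_sub_cancel_right]⟩
    · exact hα ⟨-s - p / 2, by rw [map_sub, map_neg, ← h, add_sub_cancel_right]⟩
  have htop : R⟮i⟯ = ⊤ := eq_top_iff.2 fun x _ => hall x
  let e : R⟮i⟯ ≃+* Ω := ((IntermediateField.equivOfEq htop).trans IntermediateField.topEquiv).toRingEquiv
  haveI : IsAlgClosed R⟮i⟯ := IsAlgClosed.of_ringEquiv Ω R⟮i⟯ e.symm
  infer_instance

theorem exists_real_closed (K : Type u) [Field K] [IsSemireal K] : ∃ (R C : Type u) (_ : Field R) (_ : Field C)
    (_ : Algebra K R) (_ : Algebra R C) (_ : IsSepClosed C) (_ : IsGalois R C),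
    Algebra.IsAlgebraic K R ∧ IsSemireal R ∧ Module.finrank R C = 2 ∧
      ∀ z : C, IsSquare z := by
  obtain ⟨R, hR, hm⟩ := exists_maximal K (AlgebraicClosure K)
  haveI : Algebra.IsAlgebraic R (AlgebraicClosure K) := Algebra.IsAlgebraic.tower_top (K := K) (L := R)
  obtain ⟨i, hi⟩ := IsAlgClosed.exists_eq_mul_self (-1 : AlgebraicClosure K)
  have hni : i ∉ Set.range (algebraMap R (AlgebraicClosure K)) := by
    rintro ⟨r, rfl⟩
    refine IsSemireal.not_isSumSq_neg_one R ?_
    rw [show (-1 : R) = r * r from (algebraMap R (AlgebraicClosure K)).injective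
      (by rw [map_neg, map_one, map_mul]; exact hi)]
    exact IsSumSq.mul_self r
  have hint : IsIntegral R i := Algebra.IsIntegral.isIntegral i
  have hdvd : minpoly R i ∣ X ^ 2 + 1 := minpoly.dvd R i (by
    rw [map_add, map_pow, aeval_X, map_one, pow_two, ← hi, neg_add_cancel])
  have h2 : Module.finrank R R⟮i⟯ = 2 := by
    rw [IntermediateField.adjoin.finrank hint]
    have h1 := natDegree_le_of_dvd hdvd (by rw [← C_1]; exact (monic_X_pow_add_C _ two_ne_zero).ne_zero)
    rw [show (X ^ 2 + 1 : R[X]).natDegree = 2 by rw [← C_1, natDegree_X_pow_add_C]] at h1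
    have h2 : 2 ≤ (minpoly R i).natDegree := (minpoly.two_le_natDegree_iff hint).2 hni
    omega
  haveI := isSepClosed_adjoin_i hm i hi.symm
  haveI : FiniteDimensional R R⟮i⟯ := Module.finite_of_finrank_eq_succ h2
  haveI : CharZero R := inferInstance
  haveI : Algebra.IsQuadraticExtension R R⟮i⟯ := ⟨h2⟩
  haveI : IsGalois R R⟮i⟯ := inferInstance
  exact ⟨R, R⟮i⟯, inferInstance, inferInstance, inferInstance, inferInstance, inferInstance, inferInstance,
    inferInstance, hR, h2, isSquare_adjoin_i hm i hi.symm⟩

end Groth.L28.Serre.RealExt
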