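import Groth.Agent.L28.Serre.Main
import Groth.Agent.L28.Serre.RealClosed
import Groth.Agent.L28.FieldTower.Main
import Groth.Agent.L28.FieldCd.Equivalence
import Groth.Agent.L28.EtTrace.NormConv
import Groth.Agent.L28.CurveCd.Points

/-! # An orderable field has infinite 2-cohomological dimension -/

set_option autoImplicit false
set_option linter.style.haveILetI false
set_option linter.unusedSectionVars false
set_option backward.isDefEq.respectTransparency.types false

universe u

open CategoryTheory CategoryTheory.Limits AlgebraicGeometry Opposite CategoryTheory.Abelian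

noncomputable section

namespace Groth.L28.Serre

open Groth.L27
open FieldTower (CdLE)

theorem cdLE_one_of_quadratic {R C : Type u} [Field R] [Field C] [Algebra R C] [IsSepClosed C] [IsGalois R C]
    (h2 : Module.finrank R C = 2) {d : ℕ} (h : CdLE 2 (Spec (CommRingCat.of R)) d) :
    CdLE 2 (Spec (CommRingCat.of R)) 1 := by
  haveI : Fact (Nat.Prime 2) := ⟨Nat.prime_two⟩
  haveI : FiniteDimensional R C := Module.finite_of_finrank_eq_succ h2
  haveI := etale_field R C
  haveI : IsCyclic (C ≃ₐ[R] C) := isCyclic_of_prime_card (p := 2) (by rw [IsGalois.card_aut_eq_finrank, h2])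
  obtain ⟨σ, hσ⟩ := exists_generator (K := R) (L := C)
  have hC0 : CdLE 2 (Spec (CommRingCat.of C)) 0 := fun F _ q hq => by
    obtain ⟨j, rfl⟩ : ∃ j, q = j + 1 := ⟨q - 1, by omega⟩
    exact CurveCd.subsingleton_H_sepClosed C F j
  have key : ∀ j q : ℕ, 1 ≤ q → d < q + j → ∀ G : EtCoh.Ab (Spec (CommRingCat.of R)), 2 • 𝟙 G = 0 →
      Subsingleton (EtCoh.H (Spec (CommRingCat.of R)) G q) := by
    intro j
    induction j with
    | zero =>
      exact fun q _ hq G hG => h G (DerBC.Killed.isLTorsion
        ⟨2 ^ 1, FinCovCrit.primesIn_pow Nat.prime_two 1, by rwa [pow_one]⟩) q (by omega)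
    | succ j ih =>
      intro q hq hd G hG
      refine eq_zero_of_double_zero Nat.prime_two σ hσ hC0 G hG q (by omega) fun x => ?_
      obtain ⟨e⟩ := nonempty_extEquiv_top R G (q + 2)
      haveI := ih (q + 2) (by omega) (by omega) G hG
      exact e.injective (Subsingleton.elim _ _)
  exact cdLE_of_killed Nat.prime_two R 1 fun G hG => key (d + 1) 2 (by omega) (by omega) G hG

theorem normSurj_of_cdLE_one {ℓ : ℕ} (hℓ : ℓ.Prime) {R : Type u} [Field R] (hR : (ℓ : R) ≠ 0)
    (h : CdLE ℓ (Spec (CommRingCat.of R)) 1) : EtTrace.NormSurj ℓ R := by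
  haveI : Fact ℓ.Prime := ⟨hℓ⟩
  intro L _ _ _ _ hdeg x hx
  haveI := EtSite.preservesFiniteLimits_pull (EtTrace.specExt R L)
  haveI : IsCyclic (L ≃ₐ[R] L) := isCyclic_of_prime_card (p := ℓ) (by rw [IsGalois.card_aut_eq_finrank, hdeg])
  refine EtTrace.exists_norm_of_gm_two (fun c hc => ?_) x hx
  exact FieldCd.gm_two_eq_zero_of_cd ℓ R hR (fun F hF q hq y hy => vanish_of_cdLE hℓ h F hF q hq y hy) c
    ⟨1, by rw [pow_one, ← hdeg]; exact hc⟩

/-- An orderable field has infinite cohomological dimension at two. -/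
theorem not_cdLE_two_of_orderable (K : Type u) [Field K]
    (hK : ∃ _ : LinearOrder K, IsStrictOrderedRing K) (d : ℕ) : ¬ CdLE 2 (Spec (CommRingCat.of K)) d := by
  intro h
  obtain ⟨o, ho⟩ := hK
  letI := o
  haveI : IsSemireal K := inferInstance
  obtain ⟨R, C, _, _, _, _, _, _, halg, hR, h2, hsq⟩ := RealExt.exists_real_closed K
  haveI := halg
  have hRd := FieldTower.cdLE_of_trdeg Nat.prime_two 0 K R (trdeg_eq_zero.trans Nat.cast_zero.symm) d h
  haveI : FiniteDimensional R C := Module.finite_of_finrank_eq_succ h2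
  haveI : CharZero R := inferInstance
  obtain ⟨y, hy⟩ := normSurj_of_cdLE_one Nat.prime_two (R := R) (by norm_num)
    (cdLE_one_of_quadratic h2 hRd) C h2 (-1) (neg_ne_zero.2 one_ne_zero)
  obtain ⟨w, rfl⟩ := hsq y
  rw [map_mul] at hy
  exact IsSemireal.not_isSumSq_neg_one R (hy ▸ IsSumSq.mul_self _)

end Groth.L28.Serre
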