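import Mathlib.Algebra.Homology.DerivedCategory.Ext.ExactSequences
import Mathlib.Algebra.Homology.DerivedCategory.Ext.ExtClass

/-! # Periodicity from a four term sequence -/

set_option autoImplicit false

universe w v u

open CategoryTheory CategoryTheory.Abelian

namespace Groth.L28.Serre

variable {C : Type u} [Category.{v} C] [Abelian C] [HasExt.{w} C]

/-- A four term sequence `0 → R → P → P → R → 0`, cut in two. -/
structure Four (R P I : C) where
  /-- the inclusion of the middle term -/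
  a : I ⟶ P
  /-- the augmentation -/
  b : P ⟶ R
  /-- the coaugmentation -/
  c : R ⟶ P
  /-- the projection to the middle term -/
  d : P ⟶ I
  zero₁ : a ≫ b = 0
  zero₂ : c ≫ d = 0
  ex₁ : (ShortComplex.mk a b zero₁).ShortExact
  ex₂ : (ShortComplex.mk c d zero₂).ShortExact

variable {R P I : C} (F : Four R P I)

/-- The double connecting map. -/
noncomputable def Four.double (G : C) (q : ℕ) (x : Ext.{w} R G q) : Ext.{w} R G (q + 2) :=
  F.ex₁.extClass.comp (F.ex₂.extClass.comp x (show 1 + q = q + 1 by omega)) (show 1 + (q + 1) = q + 2 by omega)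

/-- The double connecting map is injective when the middle terms vanish. -/
theorem Four.eq_zero_of_double (G : C) (q : ℕ) (h₁ : Subsingleton (Ext.{w} P G q))
    (h₂ : Subsingleton (Ext.{w} P G (q + 1))) (x : Ext.{w} R G q) (h : F.double G q x = 0) : x = 0 := by
  obtain ⟨w, hw⟩ := Ext.contravariant_sequence_exact₁ F.ex₁ G _ (show 1 + (q + 1) = q + 2 by omega) h
  rw [h₂.elim w 0, Ext.comp_zero] at hw
  obtain ⟨y, hy⟩ := Ext.contravariant_sequence_exact₁ F.ex₂ G x (show 1 + q = q + 1 by omega) hw.symm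
  rw [← hy, h₁.elim y 0, Ext.comp_zero]

/-- A map of four term sequences multiplying the coaugmentation by `m` kills the double connecting map. -/
theorem Four.double_eq_zero {P' I' : C} (F' : Four R P' I') (π : P' ⟶ P) (g : I' ⟶ I) (m : ℕ)
    (hb : π ≫ F.b = F'.b) (ha : F'.a ≫ π = g ≫ F.a) (hc : F'.c ≫ π = (m • 𝟙 R) ≫ F.c) (hd : F'.d ≫ g = π ≫ F.d)
    (G : C) (q : ℕ) (x : Ext.{w} R G q) (hx : (Ext.mk₀ (m • 𝟙 R)).comp x (zero_add q) = 0) :
    F.double G q x = 0 := by
  have e₁ := ShortComplex.ShortExact.extClass_naturality F'.ex₁ F.ex₁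
    (ShortComplex.homMk g π (𝟙 R) ha.symm (by simpa using hb))
  have e₂ := ShortComplex.ShortExact.extClass_naturality F'.ex₂ F.ex₂
    (ShortComplex.homMk (m • 𝟙 R) π g hc.symm hd.symm)
  simp only [ShortComplex.homMk_τ₁, ShortComplex.homMk_τ₃, Ext.mk₀_id_comp] at e₁ e₂
  unfold Four.double
  rw [← e₁, Ext.comp_assoc_of_second_deg_zero,
    ← Ext.comp_assoc (a₂ := 1) (a₁₂ := 1) _ _ _ (zero_add 1) (show 1 + q = q + 1 by omega) (by omega),
    ← e₂, Ext.comp_assoc_of_second_deg_zero, hx, Ext.comp_zero, Ext.comp_zero]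

end Groth.L28.Serre
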