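import Groth.Agent.L28.Serre.Perm
import Groth.Agent.L28.Serre.Period
import Mathlib.FieldTheory.Galois.Basic
import Mathlib.FieldTheory.Normal.Basic
import Mathlib.RingTheory.Etale.Field

/-! # The four term sequence of a cyclic extension -/

set_option autoImplicit false
set_option linter.style.haveILetI false
set_option linter.unusedSectionVars false
set_option backward.isDefEq.respectTransparency.types false

universe u

open CategoryTheory CategoryTheory.Limits AlgebraicGeometry Opposite

noncomputable section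

namespace Groth.L28.Serre

theorem etale_field (K L : Type u) [Field K] [Field L] [Algebra K L] [FiniteDimensional K L] [Algebra.IsSeparable K L] :
    Algebra.Etale K L :=
  haveI : Algebra.FormallyEtale K L := Algebra.FormallyEtale.of_isSeparable K L
  haveI : Algebra.FinitePresentation K L := Algebra.FinitePresentation.of_finiteType.1 inferInstance
  {}

variable {K : Type u} [Field K] {L : Type u} [Field L] [Algebra K L] [FiniteDimensional K L] [IsGalois K L]
  [Algebra.Etale K L]

/-- Any two points differ by an automorphism. -/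
theorem exists_comp_eq {Ω : Type u} [Field Ω] [Algebra K Ω] (φ₀ φ : L →ₐ[K] Ω) :
    ∃ g : L ≃ₐ[K] L, φ₀.comp g.toAlgHom = φ := by
  letI := φ₀.toRingHom.toAlgebra
  haveI : IsScalarTower K L Ω := IsScalarTower.of_algebraMap_eq fun r => (φ₀.commutes r).symm
  haveI : Normal K L := IsGalois.to_normal
  let h : L →ₐ[K] L := φ.restrictNormal' L
  refine ⟨AlgEquiv.ofBijective h (Algebra.IsAlgebraic.algHom_bijective h), AlgHom.ext fun x => ?_⟩
  exact AlgHom.restrictNormal_commutes φ L x

theorem comp_injective {Ω : Type u} [Field Ω] [Algebra K Ω] (φ₀ : L →ₐ[K] Ω) {g h : L ≃ₐ[K] L}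
    (e : φ₀.comp g.toAlgHom = φ₀.comp h.toAlgHom) : g = h :=
  AlgEquiv.ext fun x => φ₀.toRingHom.injective (DFunLike.congr_fun e x)

variable (n : ℕ) (σ : L ≃ₐ[K] L)

/-- The augmentation. -/
def aug (A : Type u) [CommRing A] [Algebra K A] [Algebra.Etale K A] : P K n A ⟶ P K n K := pmap n (Algebra.ofId K A)

theorem aug_comp {A B : Type u} [CommRing A] [Algebra K A] [Algebra.Etale K A] [CommRing B] [Algebra K B]
    [Algebra.Etale K B] (f : A →ₐ[K] B) : pmap n f ≫ aug n A = aug n B :=
  (pmap_comp n (Algebra.ofId K A) f).trans (congrArg (pmap n) (Subsingleton.elim _ _))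

/-- The sum of the conjugates. -/
def norm : P K n L ⟶ P K n L := ∑ i ∈ Finset.range (orderOf σ), pmap n ((σ ^ i).toAlgHom)

theorem wt_aug {A : Type u} [CommRing A] [Algebra K A] [Algebra.Etale K A] (z : (stk K).obj (P K n A)) :
    wt n K (fun _ => 1) ((stk K).map (aug n A) z) = wt n A (fun _ => 1) z :=
  wt_pmap n _ _ z

theorem wt_const {A : Type u} [CommRing A] [Algebra K A] [Algebra.Etale K A] (c : ZMod n) (z : (stk K).obj (P K n A)) :
    wt n A (fun _ => c) z = wt n A (fun _ => 1) z * c := by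
  rw [wt_apply, wt_apply, Finsupp.sum, Finsupp.sum, Finset.sum_mul]
  exact Finset.sum_congr rfl fun φ _ => by rw [mul_one]

theorem wt_sum {A : Type u} [CommRing A] [Algebra K A] [Algebra.Etale K A] {ι : Type*} (s : Finset ι)
    (h : ι → (A →ₐ[K] SeparableClosure K) → ZMod n) (z : (stk K).obj (P K n A)) :
    wt n A (fun φ => ∑ i ∈ s, h i φ) z = ∑ i ∈ s, wt n A (h i) z := by
  classical
  induction s using Finset.induction_on with
  | empty => simpa [wt_apply] using (by simp [Finsupp.sum] : ((ev n A z).sum fun _ c => c * (0 : ZMod n)) = 0)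
  | insert i s hi ih =>
    simp only [Finset.sum_insert hi]
    rw [wt_add, ih]

theorem stk_sum {A B : EtCoh.Ab (Spec (CommRingCat.of K))} {ι : Type*} (s : Finset ι) (f : ι → (A ⟶ B))
    (z : (stk K).obj A) : (stk K).map (∑ i ∈ s, f i) z = ∑ i ∈ s, (stk K).map (f i) z := by
  classical
  induction s using Finset.induction_on with
  | empty => rw [Finset.sum_empty, Finset.sum_empty, Functor.map_zero]; rfl
  | insert i s hi ih => rw [Finset.sum_insert hi, Finset.sum_insert hi, stk_add, ih]

theorem aug_surjective (φ₀ : L →ₐ[K] SeparableClosure K) : Function.Surjective ((stk K).map (aug n L)) := by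
  intro y
  refine ⟨(ev n L).symm (Finsupp.single φ₀ (ev n K y (Algebra.ofId K _))), ext_wt n fun w => ?_⟩
  rw [aug, wt_pmap, wt_apply, AddEquiv.apply_symm_apply, Finsupp.sum_single_index (zero_mul _), wt_apply,
    Finsupp.sum, Finset.sum_eq_single (Algebra.ofId K (SeparableClosure K))]
  · rw [Subsingleton.elim (φ₀.comp (Algebra.ofId K L)) (Algebra.ofId K _)]
  · intro φ _ h; exact absurd (Subsingleton.elim φ _) h
  · intro h; rw [Finsupp.notMem_support_iff.1 h, zero_mul]

instance epi_aug : Epi (aug (K := K) n L) :=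
  epi_of_stk _ (aug_surjective n IsSepClosed.lift)

variable (hσ : ∀ τ : L ≃ₐ[K] L, τ ∈ Subgroup.zpowers σ)

include hσ in
theorem existsUnique_index (φ₀ φ : L →ₐ[K] SeparableClosure K) :
    ∃! i, i ∈ Finset.range (orderOf σ) ∧ φ₀.comp (σ ^ i).toAlgHom = φ := by
  classical
  obtain ⟨g, hg⟩ := exists_comp_eq φ₀ φ
  obtain ⟨i, hi, rfl⟩ := Finset.mem_image.1 ((isOfFinOrder_of_finite σ).mem_zpowers_iff_mem_range_orderOf.1 (hσ g))
  refine ⟨i, ⟨hi, hg⟩, fun j ⟨hj, hj'⟩ => ?_⟩
  exact pow_injOn_Iio_orderOf (Finset.mem_range.1 hj) (Finset.mem_range.1 hi) (comp_injective φ₀ (hj'.trans hg.symm))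

include hσ in
/-- The sum of the conjugates is constant. -/
theorem ev_norm (z : (stk K).obj (P K n L)) (φ : L →ₐ[K] SeparableClosure K) :
    ev n L ((stk K).map (norm n σ) z) φ = wt n L (fun _ => 1) z := by
  classical
  rw [← wt_delta, norm, stk_sum, map_sum]
  simp only [wt_pmap]
  rw [← wt_sum]
  refine congrArg (fun h => wt n L h z) (funext fun ψ => ?_)
  obtain ⟨i, ⟨hi, he⟩, hu⟩ := existsUnique_index σ hσ ψ φ
  rw [Finset.sum_eq_single i, if_pos he]
  · intro j hj hji; exact if_neg fun h => hji (hu j ⟨hj, h⟩)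
  · intro h; exact absurd hi h

include hσ in
theorem exists_coaug : ∃ j : P K n K ⟶ P K n L, aug n L ≫ j = norm n σ := by
  refine exists_factor _ _ fun z hz => (ev n L).injective (Finsupp.ext fun φ => ?_)
  rw [ev_norm n σ hσ, map_zero, Finsupp.coe_zero, Pi.zero_apply, ← wt_aug, hz, map_zero]

/-- The coaugmentation. -/
def coaug : P K n K ⟶ P K n L := (exists_coaug n σ hσ).choose

theorem aug_coaug : aug n L ≫ coaug n σ hσ = norm n σ := (exists_coaug n σ hσ).choose_spec

theorem ev_coaug (y : (stk K).obj (P K n K)) (φ : L →ₐ[K] SeparableClosure K) :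
    ev n L ((stk K).map (coaug n σ hσ) y) φ = wt n K (fun _ => 1) y := by
  obtain ⟨z, rfl⟩ := aug_surjective n φ y
  rw [← stk_comp, aug_coaug, ev_norm n σ hσ, wt_aug]

theorem injective_coaug : Function.Injective ((stk K).map (coaug n σ hσ)) := by
  intro a b h
  refine ext_wt n fun w => ?_
  have hc : w = fun _ => w (Algebra.ofId K _) := funext fun φ => congrArg w (Subsingleton.elim _ _)
  have h' := DFunLike.congr_fun (congrArg (ev n L) h) IsSepClosed.lift
  rw [ev_coaug, ev_coaug] at h'
  rw [hc]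
  exact (wt_const n _ a).trans ((congrArg (· * _) h').trans (wt_const n _ b).symm)

theorem pmap_self_comp (τ : L ≃ₐ[K] L) : pmap n τ.toAlgHom ≫ aug n L = aug n L := aug_comp n _

/-- The difference map. -/
def diff : P K n L ⟶ kernel (aug (K := K) n L) :=
  kernel.lift _ (pmap n σ.toAlgHom - 𝟙 _) (by rw [Preadditive.sub_comp, pmap_self_comp, Category.id_comp, sub_self])

theorem stk_diff (z : (stk K).obj (P K n L)) : (stk K).map (kernel.ι (aug n L)) ((stk K).map (diff n σ) z) =
    (stk K).map (pmap n σ.toAlgHom) z - z := by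
  rw [← stk_comp, diff, kernel.lift_ι, stk_sub, CategoryTheory.Functor.map_id]
  rfl

theorem injective_stk_kernel_ι {A B : EtCoh.Ab (Spec (CommRingCat.of K))} (f : A ⟶ B) :
    Function.Injective ((stk K).map (kernel.ι f)) :=
  (AddCommGrpCat.mono_iff_injective _).1 inferInstance

theorem coaug_diff : coaug n σ hσ ≫ diff n σ = 0 := by
  refine hom_ext_stk fun y => injective_stk_kernel_ι _ ?_
  rw [stk_comp, stk_diff, Functor.map_zero]
  refine Eq.trans ?_ (map_zero ((stk K).map (kernel.ι (aug n L))).hom).symm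
  rw [sub_eq_zero]
  refine (ev n L).injective (Finsupp.ext fun φ => ?_)
  classical
  rw [← wt_delta, wt_pmap, ev_coaug]
  have h : (fun ψ : L →ₐ[K] SeparableClosure K => if ψ.comp σ.toAlgHom = φ then (1 : ZMod n) else 0) =
      fun ψ => if ψ = φ.comp σ.symm.toAlgHom then 1 else 0 := by
    funext ψ
    refine if_congr ⟨fun h => ?_, fun h => ?_⟩ rfl rfl
    · subst h; exact AlgHom.ext fun x => by simp
    · subst h; exact AlgHom.ext fun x => by simp
  rw [h, wt_delta, ev_coaug]

include hσ in
theorem surjective_diff : Function.Surjective ((stk K).map (diff n σ)) := by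
  intro y
  let φ₀ : L →ₐ[K] SeparableClosure K := IsSepClosed.lift
  let D : (stk K).obj (P K n L) →+ (stk K).obj (P K n L) :=
    ((stk K).map (kernel.ι (aug n L))).hom.comp ((stk K).map (diff n σ)).hom
  have hD : ∀ z, D z = (stk K).map (pmap n σ.toAlgHom) z - z := stk_diff n σ
  let single : (L →ₐ[K] SeparableClosure K) → ZMod n → (stk K).obj (P K n L) :=
    fun φ c => (ev n L).symm (Finsupp.single φ c)
  have hsingle : ∀ i c, single (φ₀.comp (σ ^ i).toAlgHom) c - single φ₀ c ∈ D.range := by
    intro i c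
    induction i with
    | zero => rw [show φ₀.comp (σ ^ 0).toAlgHom = φ₀ from AlgHom.ext fun x => rfl, sub_self]; exact zero_mem _
    | succ i ih =>
      have h1 : single (φ₀.comp (σ ^ (i + 1)).toAlgHom) c - single (φ₀.comp (σ ^ i).toAlgHom) c ∈ D.range := by
        refine ⟨single (φ₀.comp (σ ^ i).toAlgHom) c, (hD _).trans (congrArg (· - _) ?_)⟩
        refine (ev n L).injective ?_
        rw [ev_pmap, AddEquiv.apply_symm_apply, AddEquiv.apply_symm_apply, Finsupp.mapDomain_single]
        exact congrArg (fun k => Finsupp.single k c) (AlgHom.ext fun x => by rw [pow_succ]; rfl)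
      simpa using add_mem h1 ih
  have hall : ∀ z : (stk K).obj (P K n L), z - single φ₀ (wt n L (fun _ => 1) z) ∈ D.range := by
    intro z
    induction z using induction_pnt with
    | h0 => simp [single]
    | hadd a b ha hb =>
      rw [map_add, show single φ₀ (wt n L (fun _ => 1) a + wt n L (fun _ => 1) b) =
        single φ₀ (wt n L (fun _ => 1) a) + single φ₀ (wt n L (fun _ => 1) b) by
          simp [single, Finsupp.single_add, map_add], add_sub_add_comm]
      exact add_mem ha hb
    | h1 φ c =>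
      rw [wt_apply, AddEquiv.apply_symm_apply, Finsupp.sum_single_index (zero_mul _), mul_one]
      obtain ⟨i, ⟨-, rfl⟩, -⟩ := existsUnique_index σ hσ φ₀ φ
      exact hsingle i c
  obtain ⟨x, hx⟩ := hall ((stk K).map (kernel.ι (aug n L)) y)
  rw [← wt_aug, stk_kernel_ι, map_zero, show single φ₀ 0 = 0 by simp [single], sub_zero] at hx
  exact ⟨x, injective_stk_kernel_ι _ hx⟩

theorem exact_diff (z : (stk K).obj (P K n L)) (hz : (stk K).map (diff n σ) z = 0) :
    ∃ y, (stk K).map (coaug n σ hσ) y = z := by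
  classical
  have h0 : (stk K).map (pmap n σ.toAlgHom) z = z := by
    rw [← sub_eq_zero, ← stk_diff, hz, map_zero]
  have hinv : ∀ (i : ℕ) (φ : L →ₐ[K] SeparableClosure K),
      ev n L z (φ.comp (σ ^ i).toAlgHom) = ev n L z φ := by
    intro i
    induction i with
    | zero => intro φ; exact congrArg (ev n L z) (AlgHom.ext fun x => rfl)
    | succ i ih =>
      intro φ
      rw [← ih φ]
      conv_lhs => rw [← h0, ev_pmap]
      rw [show φ.comp (σ ^ (i + 1)).toAlgHom = (φ.comp (σ ^ i).toAlgHom).comp σ.toAlgHom from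
        AlgHom.ext fun x => by rw [pow_succ]; rfl]
      exact Finsupp.mapDomain_apply (fun a b hab => AlgHom.ext fun x => by
        simpa using DFunLike.congr_fun hab (σ.symm x)) _ _
  let φ₀ : L →ₐ[K] SeparableClosure K := IsSepClosed.lift
  refine ⟨(ev n K).symm (Finsupp.single (Algebra.ofId K _) (ev n L z φ₀)), (ev n L).injective (Finsupp.ext fun φ => ?_)⟩
  rw [ev_coaug, wt_apply, AddEquiv.apply_symm_apply, Finsupp.sum_single_index (zero_mul _), mul_one]
  obtain ⟨i, ⟨-, rfl⟩, -⟩ := existsUnique_index σ hσ φ₀ φ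
  exact (hinv i φ₀).symm

theorem shortExact_aug :
    (ShortComplex.mk (kernel.ι (aug (K := K) n L)) (aug n L) (kernel.condition _)).ShortExact :=
  { exact := ShortComplex.exact_of_f_is_kernel _ (kernelIsKernel _)
    epi_g := epi_aug n }

/-- The four term sequence. -/
def four : Four (P K n K) (P K n L) (kernel (aug (K := K) n L)) where
  a := kernel.ι _
  b := aug n L
  c := coaug n σ hσ
  d := diff n σ
  zero₁ := kernel.condition _
  zero₂ := coaug_diff n σ hσ
  ex₁ := shortExact_aug n
  ex₂ := shortExact_of_stk _ (injective_coaug n σ hσ) (surjective_diff n σ hσ) (exact_diff n σ hσ)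

section Compare

variable {L' : Type u} [Field L'] [Algebra K L'] [FiniteDimensional K L'] [IsGalois K L'] [Algebra.Etale K L']
  (σ' : L' ≃ₐ[K] L') (hσ' : ∀ τ : L' ≃ₐ[K] L', τ ∈ Subgroup.zpowers σ') (ι : L →ₐ[K] L')
  (hι : σ'.toAlgHom.comp ι = ι.comp σ.toAlgHom) (p : ℕ) (hp : orderOf σ' = p * orderOf σ)

include hι in
theorem pmap_pow_comp (i : ℕ) : pmap n (σ' ^ i).toAlgHom ≫ pmap n ι = pmap n ι ≫ pmap n (σ ^ i).toAlgHom := by
  rw [pmap_comp, pmap_comp]
  refine congrArg (pmap n) (AlgHom.ext fun x => ?_)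
  induction i with
  | zero => rfl
  | succ i ih =>
    show (σ' ^ (i + 1)) (ι x) = ι ((σ ^ (i + 1)) x)
    rw [pow_succ', pow_succ', AlgEquiv.mul_apply, AlgEquiv.mul_apply,
      show (σ' ^ i) (ι x) = ι ((σ ^ i) x) from ih]
    exact DFunLike.congr_fun hι _

include hι hp in
theorem norm_comp : norm n σ' ≫ pmap n ι = p • (pmap n ι ≫ norm n σ) := by
  simp only [norm, Preadditive.sum_comp, pmap_pow_comp n σ σ' ι hι, Preadditive.comp_sum]
  rw [hp]
  have hper : ∀ k i, pmap n ι ≫ pmap n (σ ^ (k * orderOf σ + i)).toAlgHom = pmap n ι ≫ pmap n (σ ^ i).toAlgHom :=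
    fun k i => by rw [pow_add, mul_comm k, pow_mul, pow_orderOf_eq_one, one_pow, one_mul]
  clear hp
  induction p with
  | zero => simp
  | succ k ih =>
    rw [Nat.succ_mul, Finset.sum_range_add, ih, succ_nsmul]
    exact congrArg (_ + ·) (Finset.sum_congr rfl fun i _ => hper k i)

include hι hp hσ' in
/-- The double connecting map kills classes killed by the relative degree. -/
theorem double_eq_zero (G : EtCoh.Ab (Spec (CommRingCat.of K))) (q : ℕ)
    (x : Abelian.Ext.{u + 1} (P K n K) G q)
    (hx : (Abelian.Ext.mk₀ (p • 𝟙 (P K n K))).comp x (zero_add q) = 0) :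
    (four n σ hσ).double G q x = 0 := by
  refine (four n σ hσ).double_eq_zero (four n σ' hσ') (pmap n ι)
    (kernel.map _ _ (pmap n ι) (𝟙 _) (by rw [Category.comp_id]; exact (aug_comp n ι).symm)) p
    (aug_comp n ι) (kernel.lift_ι _ _ _).symm ?_ ?_ G q x hx
  · show coaug n σ' hσ' ≫ pmap n ι = (p • 𝟙 _) ≫ coaug n σ hσ
    rw [← cancel_epi (aug (K := K) n L'), ← Category.assoc, aug_coaug, norm_comp n σ σ' ι hι p hp, Preadditive.nsmul_comp,
      Category.id_comp, Preadditive.comp_nsmul, ← aug_comp n ι, Category.assoc, aug_coaug]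
  · show diff n σ' ≫ kernel.map _ _ _ _ _ = pmap n ι ≫ diff n σ
    refine (cancel_mono (kernel.ι _)).1 ?_
    rw [Category.assoc, kernel.lift_ι, ← Category.assoc, diff, diff, kernel.lift_ι, Category.assoc, kernel.lift_ι,
      Preadditive.sub_comp, Preadditive.comp_sub, Category.id_comp, Category.comp_id]
    exact congrArg (· - _) (by simpa using pmap_pow_comp n σ σ' ι hι 1)

end Compare

end Groth.L28.Serre
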