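import Groth.Agent.L28.Serre.Objects
import Mathlib.Algebra.Category.Grp.Ulift
import Mathlib.Data.ZMod.Basic
import Mathlib.Algebra.BigOperators.Finsupp.Basic

/-! # Free sheaves of `ℤ/n`-modules and their stalks -/

set_option autoImplicit false
set_option linter.style.haveILetI false
set_option linter.unusedSectionVars false
set_option backward.isDefEq.respectTransparency.types false

universe u

open CategoryTheory CategoryTheory.Limits AlgebraicGeometry Opposite

noncomputable section

namespace Groth.L28.Serre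

variable (n : ℕ)

/-- Functoriality of the free module on a set. -/
def dom {α β : Type u} (g : α → β) : ULift.{u + 1} (α →₀ ZMod n) →+ ULift.{u + 1} (β →₀ ZMod n) :=
  AddEquiv.ulift.symm.toAddMonoidHom.comp ((Finsupp.mapDomain.addMonoidHom g).comp AddEquiv.ulift.toAddMonoidHom)

theorem dom_apply {α β : Type u} (g : α → β) (z : ULift.{u + 1} (α →₀ ZMod n)) :
    dom n g z = ⟨z.down.mapDomain g⟩ := rfl

variable {X : Scheme.{u}}

/-- The free presheaf. -/
def pre (U : X.Etale) : X.Etaleᵒᵖ ⥤ AddCommGrpCat.{u + 1} where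
  obj V := AddCommGrpCat.of (ULift.{u + 1} ((V.unop ⟶ U) →₀ ZMod n))
  map f := AddCommGrpCat.ofHom (dom n fun h => f.unop ≫ h)
  map_id V := by
    ext1
    refine AddMonoidHom.ext fun z => ULift.ext _ _ ?_
    show z.down.mapDomain _ = z.down
    rw [show (fun h : V.unop ⟶ U => (𝟙 V : V ⟶ V).unop ≫ h) = id from funext fun h => Category.id_comp h,
      Finsupp.mapDomain_id]
  map_comp {V V' V''} f g := by
    ext1
    refine AddMonoidHom.ext fun z => ULift.ext _ _ ?_
    show z.down.mapDomain _ = (z.down.mapDomain _).mapDomain _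
    rw [← Finsupp.mapDomain_comp]
    exact congrArg (fun k => z.down.mapDomain k) (funext fun h => Category.assoc _ _ h)

/-- The map of free presheaves. -/
def preMap {U U' : X.Etale} (m : U ⟶ U') : pre n U ⟶ pre n U' where
  app V := AddCommGrpCat.ofHom (dom n fun h => h ≫ m)
  naturality {V V'} f := by
    ext1
    refine AddMonoidHom.ext fun z => ULift.ext _ _ ?_
    show (z.down.mapDomain _).mapDomain _ = (z.down.mapDomain _).mapDomain _
    rw [← Finsupp.mapDomain_comp, ← Finsupp.mapDomain_comp]
    exact congrArg (fun k => z.down.mapDomain k) (funext fun h => Category.assoc _ h m)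

/-- The free sheaf of `ℤ/n`-modules. -/
def free (U : X.Etale) : EtCoh.Ab X :=
  (presheafToSheaf X.smallEtaleTopology AddCommGrpCat.{u + 1}).obj (pre n U)

/-- The map of free sheaves. -/
def fmap {U U' : X.Etale} (m : U ⟶ U') : free n U ⟶ free n U' :=
  (presheafToSheaf X.smallEtaleTopology AddCommGrpCat.{u + 1}).map (preMap n m)

theorem preMap_comp {U U' U'' : X.Etale} (m : U ⟶ U') (m' : U' ⟶ U'') :
    preMap n (m ≫ m') = preMap n m ≫ preMap n m' := by
  refine NatTrans.ext (funext fun V => AddCommGrpCat.hom_ext (AddMonoidHom.ext fun z => ULift.ext _ _ ?_))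
  show z.down.mapDomain _ = (z.down.mapDomain _).mapDomain _
  rw [← Finsupp.mapDomain_comp]
  exact congrArg (fun k => z.down.mapDomain k) (funext fun h => (Category.assoc h m m').symm)

theorem fmap_comp {U U' U'' : X.Etale} (m : U ⟶ U') (m' : U' ⟶ U'') :
    fmap n (m ≫ m') = fmap n m ≫ fmap n m' := by
  rw [fmap, preMap_comp, Functor.map_comp]; rfl

variable (Φ : GrothendieckTopology.Point.{u} X.smallEtaleTopology)

/-- The fibre of presheaves of abelian groups. -/
abbrev fibP : (X.Etaleᵒᵖ ⥤ AddCommGrpCat.{u + 1}) ⥤ AddCommGrpCat.{u + 1} := Φ.presheafFiber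

/-- The fibre of abelian sheaves. -/
abbrev fibS : EtCoh.Ab X ⥤ AddCommGrpCat.{u + 1} := Φ.sheafFiber

/-- The value of a generator at a point. -/
def germHom {U : X.Etale} (x : Φ.fiber.obj U) : ZMod n →+ (fibP Φ).obj (pre n U) :=
  (Φ.toPresheafFiber U x (pre n U)).hom.comp
    (AddEquiv.ulift.symm.toAddMonoidHom.comp (Finsupp.singleAddHom (𝟙 U)))

theorem germHom_apply {U : X.Etale} (x : Φ.fiber.obj U) (a : ZMod n) :
    germHom n Φ x a = Φ.toPresheafFiber U x (pre n U) ⟨Finsupp.single (𝟙 U) a⟩ := rfl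

/-- From the stalk to the free module on the fibre. -/
def toFin (U : X.Etale) : (fibP Φ).obj (pre n U) ⟶ AddCommGrpCat.of (ULift.{u + 1} (Φ.fiber.obj U →₀ ZMod n)) :=
  (Φ.isColimitPresheafFiberCocone (pre n U)).desc
    { pt := AddCommGrpCat.of (ULift.{u + 1} (Φ.fiber.obj U →₀ ZMod n))
      ι :=
        { app := fun x => AddCommGrpCat.ofHom (dom n fun h : x.unop.1 ⟶ U => Φ.fiber.map h x.unop.2)
          naturality := fun x y g => by
            refine AddCommGrpCat.hom_ext (AddMonoidHom.ext fun z => ULift.ext _ _ ?_)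
            show (z.down.mapDomain _).mapDomain _ = z.down.mapDomain _
            rw [← Finsupp.mapDomain_comp]
            refine congrArg (fun k => z.down.mapDomain k) (funext fun h => ?_)
            show Φ.fiber.map (g.unop.1 ≫ h) y.unop.2 = Φ.fiber.map h x.unop.2
            rw [Functor.map_comp_apply, g.unop.2]; rfl } }

theorem toFin_to (U V : X.Etale) (v : Φ.fiber.obj V) (z : (pre n U).obj (op V)) :
    toFin n Φ U (Φ.toPresheafFiber V v (pre n U) z) = ⟨z.down.mapDomain fun h : V ⟶ U => Φ.fiber.map h v⟩ :=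
  ConcreteCategory.congr_hom ((Φ.isColimitPresheafFiberCocone (pre n U)).fac _ (op (Φ.fiber.elementsMk V v))) z

theorem toFin_germ {U : X.Etale} (x : Φ.fiber.obj U) (a : ZMod n) :
    toFin n Φ U (germHom n Φ x a) = ⟨Finsupp.single x a⟩ := by
  refine (toFin_to n Φ U U x _).trans (ULift.ext _ _ ?_)
  show (Finsupp.single (𝟙 U) a).mapDomain _ = _
  rw [Finsupp.mapDomain_single, Functor.map_id_apply]

/-- The inverse map. -/
def ofFin (U : X.Etale) : ULift.{u + 1} (Φ.fiber.obj U →₀ ZMod n) →+ (fibP Φ).obj (pre n U) :=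
  (Finsupp.liftAddHom (germHom n Φ)).comp AddEquiv.ulift.toAddMonoidHom

theorem bijective_toFin (U : X.Etale) : Function.Bijective (toFin n Φ U) := by
  have h : toFin n Φ U ≫ AddCommGrpCat.ofHom (ofFin n Φ U) = 𝟙 _ := by
    refine Φ.presheafFiber_hom_ext fun V v => AddCommGrpCat.hom_ext ?_
    refine AddMonoidHom.ext fun z => ?_
    obtain ⟨z⟩ := z
    show ofFin n Φ U (toFin n Φ U (Φ.toPresheafFiber V v (pre n U) ⟨z⟩)) = Φ.toPresheafFiber V v (pre n U) ⟨z⟩
    rw [toFin_to]
    show Finsupp.liftAddHom (germHom n Φ) (z.mapDomain _) = _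
    induction z using Finsupp.induction_linear with
    | zero => rw [Finsupp.mapDomain_zero, map_zero]; exact (map_zero (Φ.toPresheafFiber V v (pre n U)).hom).symm
    | add a b ha hb =>
      rw [Finsupp.mapDomain_add, map_add, ha, hb]
      exact (map_add (Φ.toPresheafFiber V v (pre n U)).hom ⟨a⟩ ⟨b⟩).symm
    | single h a =>
      rw [Finsupp.mapDomain_single, Finsupp.liftAddHom_apply_single, germHom_apply]
      refine ((ConcreteCategory.congr_hom (Φ.toPresheafFiber_w h v (pre n U)) _).symm).trans ?_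
      refine congrArg (Φ.toPresheafFiber V v (pre n U)) (ULift.ext _ _ ?_)
      show (Finsupp.single (𝟙 U) a).mapDomain _ = _
      rw [Finsupp.mapDomain_single]
      exact congrArg (fun k => Finsupp.single k a) (Category.comp_id h)
  refine ⟨fun a b hab => ?_, fun y => ⟨ofFin n Φ U y, ?_⟩⟩
  · exact (ConcreteCategory.congr_hom h a).symm.trans ((congrArg (ofFin n Φ U) hab).trans (ConcreteCategory.congr_hom h b))
  · obtain ⟨y⟩ := y
    show toFin n Φ U (Finsupp.liftAddHom (germHom n Φ) y) = ⟨y⟩
    induction y using Finsupp.induction_linear with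
    | zero => rw [map_zero]; exact map_zero (toFin n Φ U).hom
    | add a b ha hb =>
      rw [map_add]
      exact (map_add (toFin n Φ U).hom _ _).trans (by rw [ha, hb]; rfl)
    | single x a => rw [Finsupp.liftAddHom_apply_single]; exact toFin_germ n Φ x a

theorem toFin_naturality {U U' : X.Etale} (m : U ⟶ U') :
    (fibP Φ).map (preMap n m) ≫ toFin n Φ U' =
      toFin n Φ U ≫ AddCommGrpCat.ofHom (dom n (Φ.fiber.map m)) := by
  refine Φ.presheafFiber_hom_ext fun V v => AddCommGrpCat.hom_ext (AddMonoidHom.ext fun z => ?_)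
  show toFin n Φ U' ((fibP Φ).map (preMap n m) (Φ.toPresheafFiber V v (pre n U) z)) =
    dom n (Φ.fiber.map m) (toFin n Φ U (Φ.toPresheafFiber V v (pre n U) z))
  rw [show (fibP Φ).map (preMap n m) (Φ.toPresheafFiber V v (pre n U) z) =
    Φ.toPresheafFiber V v (pre n U') ((preMap n m).app (op V) z) from
      ConcreteCategory.congr_hom (Φ.toPresheafFiber_naturality (preMap n m) V v) z, toFin_to, toFin_to]
  refine ULift.ext _ _ ?_
  show (z.down.mapDomain _).mapDomain _ = (z.down.mapDomain _).mapDomain _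
  rw [← Finsupp.mapDomain_comp, ← Finsupp.mapDomain_comp]
  exact congrArg (fun k => z.down.mapDomain k) (funext fun h => Functor.map_comp_apply Φ.fiber h m v)

/-- The unit is an isomorphism on stalks. -/
theorem isIso_toSheafify (P : X.Etaleᵒᵖ ⥤ AddCommGrpCat.{u + 1}) :
    IsIso ((fibP Φ).map (toSheafify X.smallEtaleTopology P)) :=
  GrothendieckTopology.Point.W_isInvertedBy_presheafFiber' (A := AddCommGrpCat.{u + 1}) Φ _
    (X.smallEtaleTopology.W_toSheafify P)

/-- Stalks of free sheaves are free modules on the fibres. -/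
def basis (U : X.Etale) : (fibS Φ).obj (free n U) ≃+ (Φ.fiber.obj U →₀ ZMod n) :=
  haveI := isIso_toSheafify Φ (pre n U)
  ((asIso ((fibP Φ).map (toSheafify X.smallEtaleTopology (pre n U)))).symm.addCommGroupIsoToAddEquiv).trans
    ((AddEquiv.ofBijective (toFin n Φ U).hom (bijective_toFin n Φ U)).trans AddEquiv.ulift)

theorem basis_toSheafify (U : X.Etale) (z : (fibP Φ).obj (pre n U)) :
    basis n Φ U ((fibP Φ).map (toSheafify X.smallEtaleTopology (pre n U)) z) = (toFin n Φ U z).down := by
  haveI := isIso_toSheafify Φ (pre n U)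
  exact congrArg (fun y => (toFin n Φ U y).down) (ConcreteCategory.congr_hom
    (asIso ((fibP Φ).map (toSheafify X.smallEtaleTopology (pre n U)))).hom_inv_id z)

theorem basis_fmap {U U' : X.Etale} (m : U ⟶ U') (z : (fibS Φ).obj (free n U)) :
    basis n Φ U' ((fibS Φ).map (fmap n m) z) = (basis n Φ U z).mapDomain (Φ.fiber.map m) := by
  haveI := isIso_toSheafify Φ (pre n U)
  obtain ⟨w, rfl⟩ := (ConcreteCategory.bijective_of_isIso
    ((fibP Φ).map (toSheafify X.smallEtaleTopology (pre n U)))).2 z
  rw [basis_toSheafify]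
  have e : (fibS Φ).map (fmap n m) ((fibP Φ).map (toSheafify X.smallEtaleTopology (pre n U)) w) =
      (fibP Φ).map (toSheafify X.smallEtaleTopology (pre n U')) ((fibP Φ).map (preMap n m) w) :=
    ConcreteCategory.congr_hom (((fibP Φ).map_comp _ _).symm.trans
      ((congrArg (fibP Φ).map (toSheafify_naturality X.smallEtaleTopology (preMap n m)).symm).trans
        ((fibP Φ).map_comp _ _))) w
  rw [e, basis_toSheafify]
  exact congrArg ULift.down (ConcreteCategory.congr_hom (toFin_naturality n Φ m) w)

end Groth.L28.Serre
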