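import Mathlib.FieldTheory.KummerExtension
import Mathlib.NumberTheory.Cyclotomic.Gal
import Mathlib.RingTheory.ZMod.UnitsCyclic
import Mathlib.FieldTheory.Galois.Basic

/-! # Cyclic extensions lifting Kummer extensions -/

set_option autoImplicit false
set_option linter.style.haveILetI false
set_option linter.unusedSectionVars false

universe u

open Polynomial IntermediateField

noncomputable section

namespace Groth.L28.Serre

variable {K : Type u} [Field K]

/-- Maps out of an extension generated by a root of a binomial. -/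
theorem exists_algHom_of_root {L : Type u} [Field L] [Algebra K L] [FiniteDimensional K L] {a : K} {α : L}
    (hα : α ^ Module.finrank K L = algebraMap K L a) (htop : K⟮α⟯ = ⊤) {S : Type u} [CommRing S] [Algebra K S]
    (y : S) (hy : y ^ Module.finrank K L = algebraMap K S a) : ∃ f : L →ₐ[K] S, f α = y := by
  have hint : IsIntegral K α := IsIntegral.of_finite K α
  have hmin : minpoly K α = X ^ Module.finrank K L - C a := by
    refine (minpoly.unique _ _ (monic_X_pow_sub_C _ Module.finrank_pos.ne') (by simp [hα]) fun q hq hq' => ?_).symm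
    refine le_trans ?_ (degree_le_of_dvd (minpoly.dvd _ _ hq') hq.ne_zero)
    rw [degree_X_pow_sub_C Module.finrank_pos, degree_eq_natDegree (minpoly.ne_zero hint),
      ← IntermediateField.adjoin.finrank hint, htop, Nat.cast_le]
    exact (IntermediateField.finrank_top' (F := K) (E := L)).ge
  let e : K⟮α⟯ ≃ₐ[K] L := (IntermediateField.equivOfEq htop).trans IntermediateField.topEquiv
  let pb := (IntermediateField.adjoin.powerBasis hint).map e
  have hgen : pb.gen = α := by simp [pb, e]
  have h0 : Polynomial.aeval y (minpoly K pb.gen) = 0 := by rw [hgen, hmin]; simp [hy]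
  exact ⟨pb.lift y h0, (congrArg (pb.lift y h0) hgen.symm).trans (pb.lift_gen _ _)⟩

/-- Adjoining a `p²`-th root is cyclic when `p²`-th roots of unity are present or the element is a root of unity. -/
theorem exists_cyclic_sq {p : ℕ} (hp : p.Prime) (hp2 : p ≠ 2) {a : K} (ha : ∀ b : K, b ^ p ≠ a)
    (h : (primitiveRoots (p ^ 2) K).Nonempty ∨ IsPrimitiveRoot a p) (hchar : (p : K) ≠ 0) :
    ∃ (L' : Type u) (_ : Field L') (_ : Algebra K L') (_ : FiniteDimensional K L') (_ : IsGalois K L')
      (_ : IsCyclic (L' ≃ₐ[K] L')) (θ : L'), Module.finrank K L' = p * p ∧ θ ^ (p * p) = algebraMap K L' a := by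
  have H : Irreducible (X ^ (p ^ 2) - C a) := X_pow_sub_C_irreducible_of_prime_pow hp hp2 2 ha
  haveI := Fact.mk H
  haveI : Fact p.Prime := ⟨hp⟩
  let L' := AdjoinRoot (X ^ (p ^ 2) - C a)
  haveI hpos : NeZero (p ^ 2) := ⟨pow_ne_zero _ hp.ne_zero⟩
  haveI : FiniteDimensional K L' := (AdjoinRoot.powerBasis H.ne_zero).finite
  have hdeg : Module.finrank K L' = p * p := by
    rw [(AdjoinRoot.powerBasis H.ne_zero).finrank, AdjoinRoot.powerBasis_dim, natDegree_X_pow_sub_C, pow_two]
  have hθ : (AdjoinRoot.root (X ^ (p ^ 2) - C a) : L') ^ (p * p) = algebraMap K L' a := by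
    rw [← pow_two]; exact root_X_pow_sub_C_pow _ a
  suffices IsGalois K L' ∧ IsCyclic (L' ≃ₐ[K] L') from ⟨L', inferInstance, inferInstance, inferInstance, this.1, this.2, _, hdeg, hθ⟩
  rcases h with hζ | hζ
  · haveI := isSplittingField_AdjoinRoot_X_pow_sub_C hζ H
    exact ⟨isGalois_of_isSplittingField_X_pow_sub_C hζ H L', isCyclic_of_isSplittingField_X_pow_sub_C hζ H L'⟩
  · have hr : IsPrimitiveRoot (AdjoinRoot.root (X ^ (p ^ 2) - C a) : L') (p ^ 3) := by
      have ha' : IsPrimitiveRoot (algebraMap K L' a) p := hζ.map_of_injective (algebraMap K L').injective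
      rw [← hθ] at ha'
      refine IsPrimitiveRoot.iff_orderOf.2 ?_
      refine orderOf_eq_prime_pow (fun h0 => ?_) ?_
      · exact ha'.ne_one hp.one_lt (by rw [← pow_two]; exact h0)
      · rw [show p ^ (2 + 1) = p * p * p by ring, pow_mul]
        exact ha'.pow_eq_one
    haveI : NeZero (p ^ 3) := ⟨pow_ne_zero _ hp.ne_zero⟩
    haveI : IsCyclotomicExtension {p ^ 3} K L' := by
      refine ⟨fun {n} hn _ => ?_, fun x => ?_⟩
      · rw [Set.mem_singleton_iff] at hn; subst hn; exact ⟨_, hr⟩
      · refine Algebra.adjoin_mono ?_ (AdjoinRoot.adjoinRoot_eq_top (f := X ^ (p ^ 2) - C a) ▸ Algebra.mem_top : x ∈ Algebra.adjoin K {AdjoinRoot.root (X ^ (p ^ 2) - C a)})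
        rintro _ rfl
        exact ⟨p ^ 3, rfl, pow_ne_zero _ hp.ne_zero, hr.pow_eq_one⟩
    refine ⟨IsCyclotomicExtension.isGalois {p ^ 3} K L', ?_⟩
    haveI := ZMod.isCyclic_units_of_prime_pow p hp hp2 3
    exact isCyclic_of_injective _ (hr.autToPow_injective (K := K))

end Groth.L28.Serre
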