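import Groth.Agent.L28.Serre.Perm
import Groth.Agent.L27.Colim.FreeSheaf
import Groth.Agent.L10.ModCmp.Compare
import Groth.Agent.L27.ExtZero.Exact
import Groth.Agent.L27.ExtZero.Restr
import Groth.Agent.L15.ExtZero.ExtAdj
import Groth.Agent.L28.ExtShriek.ConstIso
import Groth.Agent.L28.FieldTower.Base
import Groth.Agent.L28.FieldCd.Degree
import Mathlib.Algebra.FreeAbelianGroup.Finsupp

/-! # Extensions of permutation sheaves are cohomology groups of the étale algebras -/

set_option autoImplicit false
set_option linter.style.haveILetI false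
set_option linter.unusedSectionVars false
set_option backward.isDefEq.respectTransparency.types false

universe u

open CategoryTheory CategoryTheory.Limits AlgebraicGeometry Opposite CategoryTheory.Abelian

noncomputable section

namespace Groth.L28.Serre

open Groth.L27

variable {X : Scheme.{u}}

/-- Objects representing the same sections are isomorphic. -/
def repIso {T : X.Etale} {Z Z' : EtCoh.Ab X} (r : Colim.ExtRep.Rep (J := X.smallEtaleTopology) T Z)
    (r' : Colim.ExtRep.Rep (J := X.smallEtaleTopology) T Z') : Z ≅ Z' where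
  hom := (r.equiv Z').symm (r'.equiv Z' (𝟙 Z'))
  inv := (r'.equiv Z).symm (r.equiv Z (𝟙 Z))
  hom_inv_id := (r.equiv Z).injective (by
    rw [r.nat, AddEquiv.apply_symm_apply, ← r'.nat, Category.id_comp, AddEquiv.apply_symm_apply])
  inv_hom_id := (r'.equiv Z').injective (by
    rw [r'.nat, AddEquiv.apply_symm_apply, ← r.nat, Category.id_comp, AddEquiv.apply_symm_apply])

theorem fmap_id (n : ℕ) (U : X.Etale) : fmap n (𝟙 U) = 𝟙 (free n U) := by
  have h : preMap n (𝟙 U) = 𝟙 (pre n U) := by
    refine NatTrans.ext (funext fun V => AddCommGrpCat.hom_ext (AddMonoidHom.ext fun z => ULift.ext _ _ ?_))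
    show z.down.mapDomain _ = z.down
    rw [show (fun h : V.unop ⟶ U => h ≫ 𝟙 U) = id from funext fun h => Category.comp_id h, Finsupp.mapDomain_id]
  rw [fmap, h, CategoryTheory.Functor.map_id]
  rfl

/-- The free presheaf as a free module. -/
def freePreEquiv (U : X.Etale) (V : X.Etaleᵒᵖ) :
    FreeAbelianGroup (ULift.{u + 1, u} (V.unop ⟶ U)) ≃+ ULift.{u + 1} ((V.unop ⟶ U) →₀ ZMod 0) :=
  ((FreeAbelianGroup.equivFinsupp _).trans (Finsupp.domCongr Equiv.ulift)).trans AddEquiv.ulift.symm

theorem freePreEquiv_of (U : X.Etale) (V : X.Etaleᵒᵖ) (g : ULift.{u + 1, u} (V.unop ⟶ U)) :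
    freePreEquiv U V (FreeAbelianGroup.of g) = ⟨Finsupp.single g.down 1⟩ := by
  show (⟨Finsupp.equivMapDomain Equiv.ulift (FreeAbelianGroup.equivFinsupp _ (FreeAbelianGroup.of g))⟩ :
    ULift.{u + 1} ((V.unop ⟶ U) →₀ ZMod 0)) = _
  rw [FreeAbelianGroup.equivFinsupp_apply, FreeAbelianGroup.toFinsupp_of]
  exact congrArg ULift.up (Finsupp.equivMapDomain_single _ _ _)

/-- The two models of the free sheaf. -/
def freeIso (U : X.Etale) : Colim.freeSh U ≅ free 0 U :=
  (presheafToSheaf X.smallEtaleTopology AddCommGrpCat.{u + 1}).mapIso (NatIso.ofComponents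
    (fun V => (freePreEquiv U V).toAddCommGrpIso) (fun {V W} f => by
      refine AddCommGrpCat.hom_ext (FreeAbelianGroup.lift_ext _ _ fun g => ?_)
      show freePreEquiv U W (FreeAbelianGroup.map _ (FreeAbelianGroup.of g)) =
        (pre 0 U).map f (freePreEquiv U V (FreeAbelianGroup.of g))
      rw [FreeAbelianGroup.map_of_apply, freePreEquiv_of, freePreEquiv_of]
      refine ULift.ext _ _ ?_
      show _ = (Finsupp.single g.down (1 : ZMod 0)).mapDomain _
      rw [Finsupp.mapDomain_single]
      rfl))

/-- The extension by zero of the constant sheaf represents sections. -/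
def repExtZero (U : X.Etale) [EtShriek.JCont (U := U.left) (X := X) U.hom] :
    Colim.ExtRep.Rep (J := X.smallEtaleTopology) U
      ((EtShriek.extZero (U := U.left) (X := X) U.hom).obj (EtCoh.const U.left ℤ)) where
  equiv F := AddEquiv.trans
    (AddEquiv.mk' ((EtShriek.extZeroAdj (U := U.left) (X := X) U.hom).homEquiv _ F) (fun a b => by
      haveI := (EtShriek.extZeroAdj (U := U.left) (X := X) U.hom).right_adjoint_additive
      simp [Adjunction.homEquiv_unit, Functor.map_add]))
    (((Groth.L10.ModCmp.repTop U.left).equiv ((EtShriek.restrAlong (U := U.left) (X := X) U.hom).obj F)).trans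
      ((sheafToPresheaf _ _).obj F |>.mapIso (ExtShriek.topIso U).symm.op).addCommGroupIsoToAddEquiv)
  nat {F G} f φ := by
    show G.obj.map _ ((Groth.L10.ModCmp.repTop U.left).equiv _
        ((EtShriek.extZeroAdj (U := U.left) (X := X) U.hom).homEquiv _ G (φ ≫ f))) =
      f.hom.app (op U) (F.obj.map _ _)
    rw [Adjunction.homEquiv_naturality_right, (Groth.L10.ModCmp.repTop U.left).nat]
    exact (NatTrans.naturality_apply f.hom _ _).symm

/-- Extensions of the free sheaf are cohomology groups of the object. -/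
theorem nonempty_extEquiv_free (U : X.Etale) (C : EtCoh.Ab X) (q : ℕ)
    [EtShriek.JCont (U := U.left) (X := X) U.hom] :
    Nonempty (Ext.{u + 1} (free 0 U) C q ≃+
      EtCoh.H U.left ((EtShriek.restrAlong (U := U.left) (X := X) U.hom).obj C) q) := by
  let j := U.hom
  let e : free 0 U ≅ (EtShriek.extZero (U := U.left) (X := X) U.hom).obj (EtCoh.const U.left ℤ) :=
    (freeIso U).symm ≪≫ repIso (Colim.rep U) (repExtZero U)
  haveI : AlgebraicGeometry.Etale U.hom := U.prop
  haveI : (EtShriek.restrAlong (U := U.left) (X := X) U.hom).Additive :=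
    (EtShriek.extZeroAdj (U := U.left) (X := X) U.hom).right_adjoint_additive
  haveI : PreservesLimitsOfSize.{0, 0} (EtShriek.restrAlong (U := U.left) (X := X) U.hom) :=
    (EtShriek.extZeroAdj (U := U.left) (X := X) U.hom).rightAdjoint_preservesLimits
  haveI : PreservesFiniteLimits (EtShriek.restrAlong (U := U.left) (X := X) U.hom) :=
    PreservesLimitsOfSize.preservesFiniteLimits _
  haveI : PreservesColimitsOfSize.{0, 0} (EtShriek.restrAlong (U := U.left) (X := X) U.hom) :=
    (ExtZero.restrAdj (X := X) (U := U.left) U.hom).leftAdjoint_preservesColimits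
  haveI : PreservesFiniteColimits (EtShriek.restrAlong (U := U.left) (X := X) U.hom) :=
    PreservesColimitsOfSize.preservesFiniteColimits _
  refine ⟨AddEquiv.trans ?_ (L15.ExtAdj.extEquiv (EtShriek.extZeroAdj (U := U.left) (X := X) U.hom)
    (EtCoh.const U.left ℤ) C q)⟩
  exact
    { toFun := fun x => (Ext.mk₀ e.inv).comp x (zero_add q)
      invFun := fun x => (Ext.mk₀ e.hom).comp x (zero_add q)
      left_inv := fun x => by simp
      right_inv := fun x => by simp
      map_add' := fun x y => by simp }

variable {K : Type u} [Field K] {A : Type u} [CommRing A] [Algebra K A] [Algebra.Etale K A]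

/-- Extensions of a permutation sheaf vanish above the cohomological dimension of the algebra. -/
theorem subsingleton_ext_P {ℓ : ℕ} (hℓ : ℓ.Prime) {d : ℕ}
    (h : FieldTower.CdLE ℓ (Spec (CommRingCat.of A)) d) (C : EtCoh.Ab (Spec (CommRingCat.of K)))
    (hC : ℓ • 𝟙 C = 0) (q : ℕ) (hq : d < q) : Subsingleton (Ext.{u + 1} (P K 0 A) C q) := by
  let U := sp K A
  haveI : AlgebraicGeometry.Etale U.hom := U.prop
  haveI : EtShriek.JCont (U := U.left) (X := Spec (CommRingCat.of K)) U.hom := @ExtZero.jCont U.left _ U.hom U.prop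
  haveI : (EtShriek.restrAlong (U := U.left) (X := Spec (CommRingCat.of K)) U.hom).Additive :=
    (EtShriek.extZeroAdj (U := U.left) (X := Spec (CommRingCat.of K)) U.hom).right_adjoint_additive
  obtain ⟨e⟩ := nonempty_extEquiv_free U C q
  haveI : Subsingleton (EtCoh.H U.left ((EtShriek.restrAlong (U := U.left) (X := Spec (CommRingCat.of K)) U.hom).obj C) q) :=
    h _ (DerBC.Killed.isLTorsion ⟨ℓ ^ 1, FinCovCrit.primesIn_pow hℓ 1, by
      rw [pow_one]; exact FieldCd.nsmul_id_map _ hC⟩) q hq
  exact e.toEquiv.injective.subsingleton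

variable (K)

/-- The point represents global sections. -/
theorem nonempty_extEquiv_top (C : EtCoh.Ab (Spec (CommRingCat.of K))) (q : ℕ) :
    Nonempty (Ext.{u + 1} (P K 0 K) C q ≃+ EtCoh.H (Spec (CommRingCat.of K)) C q) := by
  let t : sp K K ≅ EtCoh.top (Spec (CommRingCat.of K)) :=
    MorphismProperty.Over.isoMk (Iso.refl _) (by
      show 𝟙 _ ≫ 𝟙 _ = Spec.map (CommRingCat.ofHom (algebraMap K K))
      rw [Category.comp_id, Algebra.algebraMap_self, CommRingCat.ofHom_id, Spec.map_id])
  let e : P K 0 K ≅ EtCoh.const (Spec (CommRingCat.of K)) ℤ :=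
    { hom := fmap 0 t.hom, inv := fmap 0 t.inv
      hom_inv_id := ((fmap_comp 0 t.hom t.inv).symm.trans (congrArg (fmap 0) t.hom_inv_id)).trans (fmap_id 0 _)
      inv_hom_id := ((fmap_comp 0 t.inv t.hom).symm.trans (congrArg (fmap 0) t.inv_hom_id)).trans (fmap_id 0 _) } ≪≫
      (freeIso _).symm ≪≫ repIso (Colim.rep _) (Groth.L10.ModCmp.repTop _)
  exact ⟨{ toFun := fun x => (Ext.mk₀ e.inv).comp x (zero_add q)
           invFun := fun x => (Ext.mk₀ e.hom).comp x (zero_add q)
           left_inv := fun x => by simp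
           right_inv := fun x => by simp
           map_add' := fun x y => by simp }⟩

end Groth.L28.Serre
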