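import Groth.Agent.L27.EtSite.PushStalk
import Groth.Agent.L28.EtTrace.Field
import Mathlib.RingTheory.Etale.StandardEtale
import Mathlib.FieldTheory.Separable
import Mathlib.FieldTheory.Galois.Basic

/-! # Étale algebras over a field as objects of the site, and their geometric points -/

set_option autoImplicit false
set_option linter.style.haveILetI false
set_option linter.unusedSectionVars false
set_option backward.isDefEq.respectTransparency.types false

universe u

open CategoryTheory CategoryTheory.Limits AlgebraicGeometry Opposite

noncomputable section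

namespace Groth.L28.Serre

variable (K : Type u) [Field K]

section Obj

variable (A B C : Type u) [CommRing A] [Algebra K A] [Algebra.Etale K A] [CommRing B] [Algebra K B] [Algebra.Etale K B]
  [CommRing C] [Algebra K C] [Algebra.Etale K C]

/-- An étale algebra as an object of the étale site. -/
def sp : (Spec (CommRingCat.of K)).Etale :=
  MorphismProperty.Over.mk ⊤ (Spec.map (CommRingCat.ofHom (algebraMap K A)))
    ((HasRingHomProperty.Spec_iff (P := @AlgebraicGeometry.Etale)).2 (RingHom.etale_algebraMap.2 inferInstance))

variable {K A B C}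

/-- The morphism attached to a map of algebras. -/
def spMap (f : A →ₐ[K] B) : sp K B ⟶ sp K A :=
  MorphismProperty.Over.homMk (Spec.map (CommRingCat.ofHom f.toRingHom)) (by
    show Spec.map _ ≫ Spec.map _ = Spec.map _
    rw [← Spec.map_comp, ← CommRingCat.ofHom_comp]
    exact congrArg (fun r => Spec.map (CommRingCat.ofHom r)) f.comp_algebraMap)

theorem spMap_comp (f : A →ₐ[K] B) (g : B →ₐ[K] C) : spMap g ≫ spMap f = spMap (g.comp f) :=
  MorphismProperty.Over.Hom.ext ((Spec.map_comp _ _).symm.trans rfl)

theorem spMap_id : spMap (AlgHom.id K A) = 𝟙 (sp K A) :=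
  MorphismProperty.Over.Hom.ext (Spec.map_id (CommRingCat.of A))

variable (K)

/-- The geometric point attached to a separably closed extension. -/
abbrev geom (Ω : Type u) [Field Ω] [Algebra K Ω] : Spec (CommRingCat.of Ω) ⟶ Spec (CommRingCat.of K) :=
  Spec.map (CommRingCat.ofHom (algebraMap K Ω))

variable (Ω : Type u) [Field Ω] [Algebra K Ω] [IsSepClosed Ω]

/-- The point of the site. -/
abbrev pt : (Spec (CommRingCat.of K)).smallEtaleTopology.Point := Scheme.pointSmallEtale (geom K Ω)

variable (A)

/-- Geometric points of an étale algebra. -/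
def fibEquiv : (A →ₐ[K] Ω) ≃ (pt K Ω).fiber.obj (sp K A) where
  toFun φ := Over.homMk (Spec.map (CommRingCat.ofHom φ.toRingHom)) (by
    show Spec.map _ ≫ Spec.map _ = Spec.map _
    rw [← Spec.map_comp, ← CommRingCat.ofHom_comp]
    exact congrArg (fun r => Spec.map (CommRingCat.ofHom r)) φ.comp_algebraMap)
  invFun y :=
    { (Spec.preimage (R := CommRingCat.of A) (S := CommRingCat.of Ω) y.left).hom with
      commutes' := fun r => by
        have h : Spec.map (Spec.preimage (R := CommRingCat.of A) (S := CommRingCat.of Ω) y.left) ≫
            Spec.map (CommRingCat.ofHom (algebraMap K A)) = geom K Ω :=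
          (congrArg (· ≫ Spec.map (CommRingCat.ofHom (algebraMap K A))) (Spec.map_preimage _)).trans (Over.w y)
        exact ConcreteCategory.congr_hom (Spec.map_injective ((Spec.map_comp _ _).trans h)) r }
  left_inv φ := AlgHom.ext fun a =>
    ConcreteCategory.congr_hom (Spec.preimage_map (CommRingCat.ofHom φ.toRingHom)) a
  right_inv y := Over.OverMorphism.ext (Spec.map_preimage (R := CommRingCat.of A) (S := CommRingCat.of Ω) y.left)

variable {A}

theorem fib_map (f : A →ₐ[K] B) (φ : B →ₐ[K] Ω) :
    (pt K Ω).fiber.map (spMap f) (fibEquiv K B Ω φ) = fibEquiv K A Ω (φ.comp f) :=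
  Over.OverMorphism.ext ((Spec.map_comp _ _).symm.trans rfl)

end Obj

section Root

variable {K}

/-- A monic separable polynomial as a standard étale pair. -/
def pair (f : Polynomial K) (hf : f.Monic) (hs : f.Separable) : StandardEtalePair K where
  f := f
  monic_f := hf
  g := 1
  cond := by
    obtain ⟨a, b, hab⟩ := Polynomial.separable_def' f |>.1 hs
    exact ⟨b, a, 0, by rw [pow_zero, ← hab]; ring⟩

theorem pair_hasMap (f : Polynomial K) (hf : f.Monic) (hs : f.Separable) {S : Type u} [CommRing S] [Algebra K S]
    (x : S) : (pair f hf hs).HasMap x ↔ Polynomial.aeval x f = 0 :=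
  ⟨fun h => h.1, fun h => ⟨h, by simp [pair]⟩⟩

end Root

end Groth.L28.Serre
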