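import Mathlib.Algebra.Order.Ring.Cone
import Mathlib.Algebra.Module.LinearMap.Defs
import Mathlib.Algebra.Algebra.Subalgebra.Basic
import Mathlib.RingTheory.Ideal.Quotient.Basic
import Mathlib.RingTheory.Ideal.Maximal
import Mathlib.Algebra.Field.Basic
import Mathlib.Tactic.FieldSimp
import Mathlib.Tactic.Ring
import Mathlib.Tactic.LinearCombination
import Mathlib.Tactic.Abel

/-! # An ordering from periodic operators satisfying the Steinberg relation -/

set_option autoImplicit false
set_option linter.style.haveILetI false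
set_option linter.unusedSectionVars false

universe u v

noncomputable section

namespace Groth.L28.Serre.Order

/-- A positive cone of a field gives an ordering. -/
theorem exists_order {K : Type u} [Field K] (P : Set Kˣ) (hmul : ∀ a ∈ P, ∀ b ∈ P, a * b ∈ P)
    (hadd : ∀ a ∈ P, ∀ b ∈ P, ∃ c ∈ P, (c : K) = a + b) (hneg : ∀ a : Kˣ, a ∈ P ∨ -a ∈ P)
    (hone : (-1 : Kˣ) ∉ P) : ∃ _ : LinearOrder K, IsStrictOrderedRing K := by
  classical
  have h1 : (1 : Kˣ) ∈ P := (hneg 1).resolve_right hone
  have hanti : ∀ a : Kˣ, a ∈ P → -a ∉ P := fun a ha h => by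
    obtain ⟨c, -, hc⟩ := hadd a ha (-a) h
    rw [Units.val_neg, add_neg_cancel] at hc
    exact c.ne_zero hc
  let Pos : K → Prop := fun x => ∃ a ∈ P, (a : K) = x
  have pos_add : ∀ {x y}, Pos x → Pos y → Pos (x + y) := by
    rintro _ _ ⟨a, ha, rfl⟩ ⟨b, hb, rfl⟩
    exact hadd a ha b hb
  have pos_zero : ¬ Pos 0 := fun ⟨a, _, h⟩ => a.ne_zero h
  have pos_tri : ∀ x : K, Pos x ∨ x = 0 ∨ Pos (-x) := fun x => by
    by_cases hx : x = 0
    · exact Or.inr (Or.inl hx)
    · rcases hneg (Units.mk0 x hx) with h | h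
      · exact Or.inl ⟨_, h, rfl⟩
      · exact Or.inr (Or.inr ⟨_, h, by simp⟩)
  letI ord : LinearOrder K :=
    { le := fun x y => x = y ∨ Pos (y - x)
      lt := fun x y => Pos (y - x)
      le_refl := fun x => Or.inl rfl
      le_trans := by
        rintro x y z (rfl | h) (rfl | h')
        · exact Or.inl rfl
        · exact Or.inr h'
        · exact Or.inr h
        · exact Or.inr (by simpa using pos_add h h')
      le_antisymm := by
        rintro x y (rfl | h) (h' | h')
        · rfl
        · rfl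
        · exact h'.symm
        · exact absurd (by simpa using pos_add h h') pos_zero
      lt_iff_le_not_ge := fun x y => by
        constructor
        · refine fun h => ⟨Or.inr h, ?_⟩
          rintro (rfl | h')
          · exact pos_zero (by simpa using h)
          · exact pos_zero (by simpa using pos_add h h')
        · rintro ⟨rfl | h, hn⟩
          · exact absurd (Or.inl rfl) hn
          · exact h
      le_total := fun x y => by
        rcases pos_tri (y - x) with h | h | h
        · exact Or.inl (Or.inr h)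
        · exact Or.inl (Or.inl (sub_eq_zero.1 h).symm)
        · exact Or.inr (Or.inr (by simpa using h))
      toDecidableLE := Classical.decRel _ }
  refine ⟨ord, ?_⟩
  haveI : IsOrderedAddMonoid K :=
    { add_le_add_left := fun x y h c => by
        rcases h with rfl | h
        · exact Or.inl rfl
        · exact Or.inr (by simpa using h) }
  haveI : ZeroLEOneClass K := ⟨Or.inr ⟨1, h1, by simp⟩⟩
  refine IsStrictOrderedRing.of_mul_pos fun x y hx hy => ?_
  obtain ⟨a, ha, hax⟩ := hx
  obtain ⟨b, hb, hby⟩ := hy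
  exact ⟨a * b, hmul a ha b hb, by rw [Units.val_mul, hax, hby]; simp⟩

section Operators

variable {K : Type u} [Field K] {A₀ A₁ A₂ : Type v} [AddCommGroup A₀] [AddCommGroup A₁] [AddCommGroup A₂]
  (T : Kˣ → A₀ →+ A₁) (T' : Kˣ → A₁ →+ A₂) (a₀ : Kˣ)
  (hT : Function.Bijective (T a₀)) (hT' : Function.Bijective (T' a₀))
  (hmul : ∀ a b, T (a * b) = T a + T b) (hmul' : ∀ a b, T' (a * b) = T' a + T' b)
  (htwo : ∀ x : A₀, x + x = 0) (htwo₂ : ∀ x : A₂, x + x = 0)
  (hst : ∀ a b : Kˣ, (a : K) + b = 1 → ∀ x, T' a (T b x) = 0)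

include hmul hmul' hst in
theorem comp_neg_self (a : Kˣ) (x : A₀) : T' a (T (-a) x) = 0 := by
  have hT1 : T 1 = 0 := by
    have h := hmul 1 1
    rwa [mul_one, left_eq_add] at h
  have hT'1 : T' 1 = 0 := by
    have h := hmul' 1 1
    rwa [mul_one, left_eq_add] at h
  by_cases ha : (a : K) = 1
  · rw [show a = 1 from Units.ext ha, hT'1]; rfl
  have h1 : (1 : K) - a ≠ 0 := sub_ne_zero.2 fun h => ha h.symm
  have h2 : (1 : K) - (a : K)⁻¹ ≠ 0 := sub_ne_zero.2 fun h => ha (inv_eq_one.1 h.symm)
  let b := Units.mk0 _ h1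
  let c := Units.mk0 _ h2
  have hac : -a * c = b := by
    ext
    simp only [Units.val_mul, Units.val_neg, b, c, Units.val_mk0]
    rw [mul_sub, mul_one, neg_mul, mul_inv_cancel₀ a.ne_zero]; ring
  have e1 : T' a (T b x) = 0 := hst a b (by simp [b]) x
  have e2 : T' a⁻¹ (T c x) = 0 := hst a⁻¹ c (by simp [c]) x
  have e3 : T' a⁻¹ = -T' a := by
    refine eq_neg_of_add_eq_zero_left ?_
    rw [← hmul', inv_mul_cancel, hT'1]
  rw [e3, AddMonoidHom.neg_apply, neg_eq_zero] at e2
  rwa [← hac, hmul, AddMonoidHom.add_apply, map_add, e2, add_zero] at e1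

include hmul hmul' hst htwo₂ in
theorem comp_comm (a b : Kˣ) (x : A₀) : T' a (T b x) = T' b (T a x) := by
  have hna : ∀ a : Kˣ, T (-a) = T a + T (-1) := fun a => by rw [← hmul, mul_neg, mul_one]
  have h := comp_neg_self T T' hmul hmul' hst (a * b) x
  have ha := comp_neg_self T T' hmul hmul' hst a x
  have hb := comp_neg_self T T' hmul hmul' hst b x
  rw [hna, hmul', hmul] at h
  rw [hna] at ha hb
  simp only [AddMonoidHom.add_apply, map_add] at h ha hb
  have hsum : T' a (T b x) + T' b (T a x) = 0 := by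
    calc T' a (T b x) + T' b (T a x) = (T' a (T a x) + T' a (T b x) + T' a (T (-1) x) +
          (T' b (T a x) + T' b (T b x) + T' b (T (-1) x))) - (T' a (T a x) + T' a (T (-1) x)) -
          (T' b (T b x) + T' b (T (-1) x)) := by abel
      _ = 0 := by grind
  rw [eq_neg_of_add_eq_zero_left hsum]
  exact (eq_neg_of_add_eq_zero_left (htwo₂ _)).symm

/-- The normalised operator. -/
def U (a : Kˣ) : AddMonoid.End A₀ :=
  (AddEquiv.ofBijective (T a₀) hT).symm.toAddMonoidHom.comp (T a)

theorem T_U (a : Kˣ) (x : A₀) : T a₀ (U T a₀ hT a x) = T a x :=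
  (AddEquiv.ofBijective (T a₀) hT).apply_symm_apply _

include hT' hmul hmul' hst htwo₂ in
theorem T'_U (a b : Kˣ) (x : A₀) : T' a₀ (T a₀ ((U T a₀ hT a * U T a₀ hT b) x)) = T' a (T b x) := by
  show T' a₀ (T a₀ (U T a₀ hT a (U T a₀ hT b x))) = _
  rw [T_U, ← comp_comm T T' hmul hmul' htwo₂ hst a a₀, T_U]

include hT hT' hmul hmul' hst htwo htwo₂ in
/-- A field with such operators on a nonzero group is orderable. -/
theorem exists_order_of_periodic [Nontrivial A₀] : ∃ _ : LinearOrder K, IsStrictOrderedRing K := by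
  classical
  let Ua := U T a₀ hT
  have hinj : ∀ {x y : A₀}, T' a₀ (T a₀ x) = T' a₀ (T a₀ y) → x = y := fun h => hT.1 (hT'.1 h)
  have hUmul : ∀ a b, Ua (a * b) = Ua a + Ua b := fun a b => AddMonoidHom.ext fun x => hT.1 (by
    show T a₀ (U T a₀ hT (a * b) x) = T a₀ (U T a₀ hT a x + U T a₀ hT b x)
    rw [T_U, map_add, T_U, T_U, hmul]; rfl)
  have hUU : ∀ a b, Ua a * Ua b = Ua b * Ua a := fun a b => AddMonoidHom.ext fun x => hinj
    ((T'_U T T' a₀ hT hT' hmul hmul' htwo₂ hst a b x).trans ((comp_comm T T' hmul hmul' htwo₂ hst a b x).trans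
      (T'_U T T' a₀ hT hT' hmul hmul' htwo₂ hst b a x).symm))
  have hUst : ∀ a b : Kˣ, (a : K) + b = 1 → Ua a * Ua b = 0 := fun a b h => AddMonoidHom.ext fun x => hinj
    ((T'_U T T' a₀ hT hT' hmul hmul' htwo₂ hst a b x).trans ((hst a b h x).trans
      (show (0 : A₂) = T' a₀ (T a₀ 0) by rw [map_zero, map_zero])))
  have hU0 : Ua a₀ = 1 := AddMonoidHom.ext fun x => hT.1 (T_U T a₀ hT a₀ x)
  have hUneg : Ua (-1) = 1 := AddMonoidHom.ext fun x => hinj (by
    have h := comp_neg_self T T' hmul hmul' hst a₀ x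
    rw [show -a₀ = a₀ * -1 by simp, hmul, AddMonoidHom.add_apply, map_add] at h
    show T' a₀ (T a₀ (U T a₀ hT (-1) x)) = T' a₀ (T a₀ x)
    rw [T_U]
    have h2 := eq_neg_of_add_eq_zero_right h
    rw [h2]
    exact (eq_neg_of_add_eq_zero_left (htwo₂ _)).symm)
  have hidem : ∀ a, Ua a * Ua a = Ua a := fun a => by
    have h : Ua a * Ua (-1) = Ua a * Ua a := AddMonoidHom.ext fun x => hinj (by
      refine (T'_U T T' a₀ hT hT' hmul hmul' htwo₂ hst a (-1) x).trans (Eq.trans ?_ (T'_U T T' a₀ hT hT' hmul hmul' htwo₂ hst a a x).symm)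
      have h := comp_neg_self T T' hmul hmul' hst a x
      rw [show -a = a * -1 by simp, hmul, AddMonoidHom.add_apply, map_add] at h
      rw [eq_neg_of_add_eq_zero_right h]
      exact (eq_neg_of_add_eq_zero_left (htwo₂ _)).symm)
    rw [← h, hUneg, mul_one]
  let S : Set (AddMonoid.End A₀) := Set.range Ua
  letI : CommRing (Subring.closure S) := Subring.closureCommRingOfComm (by
    rintro _ ⟨a, rfl⟩ _ ⟨b, rfl⟩; exact hUU a b)
  haveI : Nontrivial (Subring.closure S) := by
    obtain ⟨x, hx⟩ := exists_ne (0 : A₀)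
    exact ⟨1, 0, fun h => hx (DFunLike.congr_fun (congrArg Subtype.val h) x)⟩
  obtain ⟨m, hm⟩ := Ideal.exists_maximal (Subring.closure S)
  letI := Ideal.Quotient.field m
  let u : Kˣ → Subring.closure S ⧸ m := fun a =>
    Ideal.Quotient.mk m ⟨Ua a, Subring.subset_closure ⟨a, rfl⟩⟩
  have umul : ∀ a b, u (a * b) = u a + u b := fun a b => by
    rw [← map_add]; exact congrArg _ (Subtype.ext (hUmul a b))
  have ust : ∀ a b : Kˣ, (a : K) + b = 1 → u a * u b = 0 := fun a b h => by
    rw [← map_mul, show (⟨Ua a, Subring.subset_closure ⟨a, rfl⟩⟩ * ⟨Ua b, Subring.subset_closure ⟨b, rfl⟩⟩ :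
      Subring.closure S) = 0 from Subtype.ext (hUst a b h), map_zero]
  have uidem : ∀ a, u a = 0 ∨ u a = 1 := fun a => by
    have h : u a * u a = u a := by rw [← map_mul]; exact congrArg _ (Subtype.ext (hidem a))
    rcases eq_or_ne (u a) 0 with h0 | h0
    · exact Or.inl h0
    · exact Or.inr (mul_left_cancel₀ h0 (by rw [h, mul_one]))
  have uneg : u (-1) = 1 := by
    rw [← map_one (Ideal.Quotient.mk m)]; exact congrArg _ (Subtype.ext hUneg)
  have two : (1 : Subring.closure S ⧸ m) + 1 = 0 := by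
    rw [← map_one (Ideal.Quotient.mk m), ← map_add,
      show (1 + 1 : Subring.closure S) = 0 from Subtype.ext (AddMonoidHom.ext htwo), map_zero]
  refine exists_order {a | u a = 0} (fun a ha b hb => ?_) (fun a ha b hb => ?_) (fun a => ?_) ?_
  · show u (a * b) = 0
    rw [umul, ha, hb, add_zero]
  · have hab : (a : K) + b ≠ 0 := fun h => by
      have hb' : b = -1 * a := Units.ext (by simp; linear_combination h)
      have hb0 : u b = 0 := hb
      rw [hb', umul, uneg, show u a = 0 from ha, add_zero] at hb0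
      exact one_ne_zero hb0
    refine ⟨Units.mk0 _ hab, ?_, rfl⟩
    let c : Kˣ := -1 * (b * a⁻¹)
    let e : Kˣ := Units.mk0 _ hab * a⁻¹
    have hce : (c : K) + e = 1 := by
      simp only [c, e, Units.val_mul, Units.val_neg, Units.val_one, Units.val_mk0, Units.val_inv_eq_inv_val]
      field_simp
      ring
    have hainv : u a⁻¹ = 0 := by
      have h := umul a a⁻¹
      rw [show u a = 0 from ha, zero_add, mul_inv_cancel] at h
      rw [← h]
      have h1 := umul 1 1
      rwa [mul_one, left_eq_add] at h1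
    have huc : u c = 1 := by rw [umul, uneg, umul, show u b = 0 from hb, hainv, add_zero, add_zero]
    have h := ust c e hce
    rw [huc, one_mul, umul, hainv, add_zero] at h
    exact h
  · rcases uidem a with h | h
    · exact Or.inl h
    · refine Or.inr ?_
      show u (-a) = 0
      rw [show -a = -1 * a by simp, umul, uneg, h, two]
  · exact fun h => one_ne_zero (uneg.symm.trans h)

end Operators

end Groth.L28.Serre.Order
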