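import Groth.Agent.L28.Serre.Free
import Groth.Agent.L27.EtSite.PushStalk
import Mathlib.FieldTheory.IsSepClosed
import Mathlib.CategoryTheory.Abelian.Exact

/-! # Permutation sheaves over a field and their stalk at the separable closure -/

set_option autoImplicit false
set_option linter.style.haveILetI false
set_option linter.unusedSectionVars false
set_option backward.isDefEq.respectTransparency.types false

universe u

open CategoryTheory CategoryTheory.Limits AlgebraicGeometry Opposite

noncomputable section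

namespace Groth.L28.Serre

variable (K : Type u) [Field K]

/-- The stalk at the separable closure. -/
abbrev stk : EtCoh.Ab (Spec (CommRingCat.of K)) ⥤ AddCommGrpCat.{u + 1} :=
  EtCoh.stalk (geom K (SeparableClosure K))

instance preservesFiniteLimits_stk : PreservesFiniteLimits (stk K) := inferInstance

instance preservesFiniteColimits_stk : PreservesFiniteColimits (stk K) := inferInstance

instance additive_stk : (stk K).Additive := Functor.additive_of_preserves_binary_products _

variable {K}

theorem isZero_of_stk {F : EtCoh.Ab (Spec (CommRingCat.of K))} (h : IsZero ((stk K).obj F)) : IsZero F :=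
  Groth.L27.EtSite.isZero_of_stalks F fun _ => ⟨SeparableClosure K, inferInstance, inferInstance,
    geom K (SeparableClosure K), Subsingleton.elim (α := Spec (CommRingCat.of K)) _ _, h⟩

/-- The stalk detects zero morphisms. -/
theorem eq_zero_of_stk {A B : EtCoh.Ab (Spec (CommRingCat.of K))} (φ : A ⟶ B) (h : (stk K).map φ = 0) : φ = 0 := by
  haveI : IsSplitEpi (kernel.ι ((stk K).map φ)) := .mk' ⟨kernel.lift _ (𝟙 _) (by rw [h, comp_zero]), kernel.lift_ι _ _ _⟩
  haveI : IsIso (kernel.ι ((stk K).map φ)) := isIso_of_mono_of_isSplitEpi _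
  haveI : IsIso ((stk K).map (kernel.ι φ)) := by
    rw [← kernelComparison_comp_ι φ (stk K)]
    infer_instance
  have hz : IsZero (cokernel (kernel.ι φ)) :=
    isZero_of_stk ((isZero_cokernel_of_epi ((stk K).map (kernel.ι φ))).of_iso (PreservesCokernel.iso (stk K) _))
  haveI : Epi (kernel.ι φ) := Preadditive.epi_of_isZero_cokernel _ hz
  rw [← cancel_epi (kernel.ι φ), kernel.condition, comp_zero]

instance faithful_stk : (stk K).Faithful where
  map_injective {A B} φ ψ h := sub_eq_zero.1 (eq_zero_of_stk (φ - ψ) (by rw [Functor.map_sub, h, sub_self]))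

/-- Morphisms agreeing on the stalk agree. -/
theorem hom_ext_stk {A B : EtCoh.Ab (Spec (CommRingCat.of K))} {φ ψ : A ⟶ B}
    (h : ∀ z, (stk K).map φ z = (stk K).map ψ z) : φ = ψ :=
  (stk K).map_injective (ConcreteCategory.hom_ext _ _ h)

theorem stk_comp {A B C : EtCoh.Ab (Spec (CommRingCat.of K))} (φ : A ⟶ B) (ψ : B ⟶ C) (z : (stk K).obj A) :
    (stk K).map (φ ≫ ψ) z = (stk K).map ψ ((stk K).map φ z) :=
  ConcreteCategory.congr_hom ((stk K).map_comp φ ψ) z

theorem stk_add {A B : EtCoh.Ab (Spec (CommRingCat.of K))} (φ ψ : A ⟶ B) (z : (stk K).obj A) :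
    (stk K).map (φ + ψ) z = (stk K).map φ z + (stk K).map ψ z :=
  ConcreteCategory.congr_hom (Functor.map_add (F := stk K) (f := φ) (g := ψ)) z

theorem stk_nsmul {A B : EtCoh.Ab (Spec (CommRingCat.of K))} (m : ℕ) (φ : A ⟶ B) (z : (stk K).obj A) :
    (stk K).map (m • φ) z = m • (stk K).map φ z := by
  induction m with
  | zero => rw [zero_nsmul, zero_nsmul, Functor.map_zero]; rfl
  | succ m ih => rw [succ_nsmul, succ_nsmul, stk_add, ih]

theorem stk_sub {A B : EtCoh.Ab (Spec (CommRingCat.of K))} (φ ψ : A ⟶ B) (z : (stk K).obj A) :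
    (stk K).map (φ - ψ) z = (stk K).map φ z - (stk K).map ψ z :=
  ConcreteCategory.congr_hom (Functor.map_sub (F := stk K) (f := φ) (g := ψ)) z

theorem mono_of_stk {A B : EtCoh.Ab (Spec (CommRingCat.of K))} (φ : A ⟶ B)
    (h : Function.Injective ((stk K).map φ)) : Mono φ :=
  haveI : Mono ((stk K).map φ) := (AddCommGrpCat.mono_iff_injective _).2 h
  (stk K).mono_of_mono_map ‹_›

theorem epi_of_stk {A B : EtCoh.Ab (Spec (CommRingCat.of K))} (φ : A ⟶ B)
    (h : Function.Surjective ((stk K).map φ)) : Epi φ :=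
  haveI : Epi ((stk K).map φ) := (AddCommGrpCat.epi_iff_surjective _).2 h
  (stk K).epi_of_epi_map ‹_›

theorem shortExact_of_stk (S : ShortComplex (EtCoh.Ab (Spec (CommRingCat.of K))))
    (hf : Function.Injective ((stk K).map S.f)) (hg : Function.Surjective ((stk K).map S.g))
    (hfg : ∀ z, (stk K).map S.g z = 0 → ∃ y, (stk K).map S.f y = z) : S.ShortExact :=
  { exact := (stk K).reflects_exact_of_faithful S ((ShortComplex.ab_exact_iff _).2 hfg)
    mono_f := mono_of_stk _ hf
    epi_g := epi_of_stk _ hg }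

theorem stk_kernel_ι {A B : EtCoh.Ab (Spec (CommRingCat.of K))} (φ : A ⟶ B) (z : (stk K).obj (kernel φ)) :
    (stk K).map φ ((stk K).map (kernel.ι φ) z) = 0 := by
  rw [← stk_comp, kernel.condition, Functor.map_zero]; rfl

/-- A morphism factors through an epimorphism when it vanishes on the kernel in the stalk. -/
theorem exists_factor {A B C : EtCoh.Ab (Spec (CommRingCat.of K))} (π : A ⟶ B) [Epi π] (ν : A ⟶ C)
    (h : ∀ z, (stk K).map π z = 0 → (stk K).map ν z = 0) : ∃ j : B ⟶ C, π ≫ j = ν :=
  ⟨Abelian.epiDesc π ν (hom_ext_stk fun z => by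
    rw [stk_comp, h _ (stk_kernel_ι π z), Functor.map_zero]; rfl), Abelian.comp_epiDesc _ _ _⟩

section Sheaves

variable (n : ℕ) (K)
variable (A B : Type u) [CommRing A] [Algebra K A] [Algebra.Etale K A] [CommRing B] [Algebra K B] [Algebra.Etale K B]

/-- The permutation sheaf of an étale algebra. -/
def P : EtCoh.Ab (Spec (CommRingCat.of K)) := free n (sp K A)

variable {K A B}

/-- The map of permutation sheaves. -/
def pmap (f : A →ₐ[K] B) : P K n B ⟶ P K n A := fmap n (spMap f)

theorem pmap_comp {C : Type u} [CommRing C] [Algebra K C] [Algebra.Etale K C] (f : A →ₐ[K] B) (g : B →ₐ[K] C) :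
    pmap n g ≫ pmap n f = pmap n (g.comp f) :=
  (fmap_comp n _ _).symm.trans (congrArg (fmap n) (spMap_comp f g))

variable (A)

/-- Coordinates on the stalk. -/
def ev : (stk K).obj (P K n A) ≃+ ((A →ₐ[K] SeparableClosure K) →₀ ZMod n) :=
  (basis n (pt K (SeparableClosure K)) (sp K A)).trans
    (Finsupp.domCongr (fibEquiv K A (SeparableClosure K)).symm)

variable {A}

theorem ev_pmap (f : A →ₐ[K] B) (z : (stk K).obj (P K n B)) :
    ev n A ((stk K).map (pmap n f) z) = (ev n B z).mapDomain fun φ => φ.comp f := by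
  let Ω := SeparableClosure K
  show Finsupp.equivMapDomain (fibEquiv K A Ω).symm (basis n (pt K Ω) (sp K A) ((fibS (pt K Ω)).map (fmap n (spMap f)) z)) =
    (Finsupp.equivMapDomain (fibEquiv K B Ω).symm (basis n (pt K Ω) (sp K B) z)).mapDomain fun φ => φ.comp f
  rw [basis_fmap, Finsupp.equivMapDomain_eq_mapDomain, Finsupp.equivMapDomain_eq_mapDomain, ← Finsupp.mapDomain_comp,
    ← Finsupp.mapDomain_comp]
  refine congrArg (fun k => (basis n (pt K Ω) (sp K B) z).mapDomain k) (funext fun y => ?_)
  obtain ⟨φ, rfl⟩ := (fibEquiv K B Ω).surjective y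
  show (fibEquiv K A Ω).symm ((pt K Ω).fiber.map (spMap f) (fibEquiv K B Ω φ)) =
    ((fibEquiv K B Ω).symm (fibEquiv K B Ω φ)).comp f
  rw [fib_map, Equiv.symm_apply_apply, Equiv.symm_apply_apply]

/-- The element of the stalk attached to a point. -/
def pnt (φ : A →ₐ[K] SeparableClosure K) : (stk K).obj (P K n A) := (ev n A).symm (Finsupp.single φ 1)

theorem pmap_pnt (f : A →ₐ[K] B) (φ : B →ₐ[K] SeparableClosure K) :
    (stk K).map (pmap n f) (pnt n φ) = pnt n (φ.comp f) := by
  refine (ev n A).injective ?_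
  rw [ev_pmap, pnt, pnt, AddEquiv.apply_symm_apply, AddEquiv.apply_symm_apply, Finsupp.mapDomain_single]

variable (A)

/-- Weighted sum of coordinates. -/
def wt (h : (A →ₐ[K] SeparableClosure K) → ZMod n) : (stk K).obj (P K n A) →+ ZMod n :=
  (Finsupp.liftAddHom fun φ => AddMonoidHom.mulRight (h φ)).comp (ev n A).toAddMonoidHom

variable {A}

theorem wt_apply (h : (A →ₐ[K] SeparableClosure K) → ZMod n) (z : (stk K).obj (P K n A)) :
    wt n A h z = (ev n A z).sum fun φ c => c * h φ := rfl

theorem wt_pmap (f : A →ₐ[K] B) (h : (A →ₐ[K] SeparableClosure K) → ZMod n) (z : (stk K).obj (P K n B)) :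
    wt n A h ((stk K).map (pmap n f) z) = wt n B (fun φ => h (φ.comp f)) z := by
  rw [wt_apply, wt_apply, ev_pmap, Finsupp.sum_mapDomain_index (fun _ => zero_mul _) (fun _ _ _ => add_mul _ _ _)]

theorem wt_pnt (h : (A →ₐ[K] SeparableClosure K) → ZMod n) (φ : A →ₐ[K] SeparableClosure K) :
    wt n A h (pnt n φ) = h φ := by
  rw [wt_apply, pnt, AddEquiv.apply_symm_apply, Finsupp.sum_single_index (zero_mul _), one_mul]

theorem wt_add (h k : (A →ₐ[K] SeparableClosure K) → ZMod n) (z : (stk K).obj (P K n A)) :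
    wt n A (fun φ => h φ + k φ) z = wt n A h z + wt n A k z := by
  rw [wt_apply, wt_apply, wt_apply, ← Finsupp.sum_add]
  exact Finset.sum_congr rfl fun φ _ => mul_add _ _ _

theorem wt_delta [DecidableEq (A →ₐ[K] SeparableClosure K)] (φ₀ : A →ₐ[K] SeparableClosure K)
    (z : (stk K).obj (P K n A)) : wt n A (fun φ => if φ = φ₀ then 1 else 0) z = ev n A z φ₀ := by
  rw [wt_apply]
  have h : (fun (φ : A →ₐ[K] SeparableClosure K) (c : ZMod n) => c * if φ = φ₀ then 1 else 0) =
      fun φ c => if φ₀ = φ then c else 0 := by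
    funext φ c; rw [mul_ite, mul_one, mul_zero]; exact if_congr eq_comm rfl rfl
  rw [h, Finsupp.sum_ite_eq]
  split_ifs with hm
  · rfl
  · exact (Finsupp.notMem_support_iff.1 hm).symm

theorem ext_wt {y z : (stk K).obj (P K n A)} (h : ∀ w, wt n A w y = wt n A w z) : y = z := by
  classical
  exact (ev n A).injective (Finsupp.ext fun φ => by rw [← wt_delta, ← wt_delta, h])

theorem induction_pnt {p : (stk K).obj (P K n A) → Prop} (z : (stk K).obj (P K n A)) (h0 : p 0)
    (hadd : ∀ x y, p x → p y → p (x + y)) (h1 : ∀ φ (c : ZMod n), p ((ev n A).symm (Finsupp.single φ c))) : p z := by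
  obtain ⟨w, rfl⟩ := (ev n A).symm.surjective z
  induction w using Finsupp.induction_linear with
  | zero => rw [map_zero]; exact h0
  | add a b ha hb => rw [map_add]; exact hadd _ _ ha hb
  | single φ c => exact h1 φ c

end Sheaves

end Groth.L28.Serre
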