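import Groth.Agent.L28.Serre.Twofold
import Groth.Agent.L28.Serre.Cyclic
import Mathlib.FieldTheory.Galois.GaloisClosure
import Mathlib.Algebra.Homology.DerivedCategory.Ext.ExactSequences

/-! # Degree one classes of units modulo two and the Steinberg relation -/

set_option autoImplicit false
set_option linter.style.haveILetI false
set_option linter.unusedSectionVars false
set_option backward.isDefEq.respectTransparency.types false

universe u

open CategoryTheory CategoryTheory.Limits AlgebraicGeometry Opposite CategoryTheory.Abelian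
open Polynomial (aeval)

noncomputable section

namespace Groth.L28.Serre

variable {K : Type u} [Field K] [NeZero (2 : K)]

local notation "Ω" => SeparableClosure K

section Root

variable (f : Polynomial K) (hf : f.Monic) (hs : f.Separable)

/-- The algebra of roots of a polynomial. -/
abbrev Rt : Type u := (pair f hf hs).Ring

/-- The map given by a root. -/
def root {S : Type u} [CommRing S] [Algebra K S] (x : S) (hx : aeval x f = 0) : Rt f hf hs →ₐ[K] S :=
  (pair f hf hs).lift x ((pair_hasMap f hf hs x).2 hx)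

theorem root_X {S : Type u} [CommRing S] [Algebra K S] (x : S) (hx : aeval x f = 0) :
    root f hf hs x hx (pair f hf hs).X = x :=
  StandardEtalePair.lift_X _ _ _

theorem aeval_X_eq {S : Type u} [CommRing S] [Algebra K S] (φ : Rt f hf hs →ₐ[K] S) :
    aeval (φ (pair f hf hs).X) f = 0 :=
  (StandardEtalePair.hasMap_X.map φ).1

theorem rt_ext {S : Type u} [CommRing S] [Algebra K S] {φ ψ : Rt f hf hs →ₐ[K] S}
    (h : φ (pair f hf hs).X = ψ (pair f hf hs).X) : φ = ψ :=
  StandardEtalePair.hom_ext h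

end Root

section Pols

/-- The polynomial of square roots. -/
def qPol (a : Kˣ) : Polynomial K := Polynomial.X ^ 2 - Polynomial.C (a : K)

theorem monic_qPol (a : Kˣ) : (qPol a).Monic := Polynomial.monic_X_pow_sub_C _ two_ne_zero

theorem separable_qPol (a : Kˣ) : (qPol a).Separable :=
  Polynomial.separable_X_pow_sub_C (a : K) (by exact_mod_cast NeZero.ne (2 : K)) a.ne_zero

/-- The algebra of square roots. -/
abbrev Q (a : Kˣ) : Type u := Rt (qPol a) (monic_qPol a) (separable_qPol a)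

theorem aeval_qPol (a : Kˣ) {S : Type u} [CommRing S] [Algebra K S] (x : S) :
    aeval x (qPol a) = 0 ↔ x * x = algebraMap K S a := by
  rw [qPol, map_sub, map_pow, Polynomial.aeval_X, Polynomial.aeval_C, sub_eq_zero, pow_two]

/-- The map given by a square root. -/
def qRoot (a : Kˣ) {S : Type u} [CommRing S] [Algebra K S] (x : S) (hx : x * x = algebraMap K S a) : Q a →ₐ[K] S :=
  root _ _ _ x ((aeval_qPol a x).2 hx)

/-- The generator. -/
def qX (a : Kˣ) : Q a := (pair (qPol a) (monic_qPol a) (separable_qPol a)).X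

theorem qRoot_qX (a : Kˣ) {S : Type u} [CommRing S] [Algebra K S] (x : S) (hx : x * x = algebraMap K S a) :
    qRoot a x hx (qX a) = x := root_X _ _ _ x _

theorem qX_sq (a : Kˣ) : qX a * qX a = algebraMap K (Q a) a := (aeval_qPol a _).1 StandardEtalePair.hasMap_X.1

theorem sq_map (a : Kˣ) {S : Type u} [CommRing S] [Algebra K S] (φ : Q a →ₐ[K] S) :
    φ (qX a) * φ (qX a) = algebraMap K S a := by rw [← map_mul, qX_sq, AlgHom.commutes]

theorem q_ext {a : Kˣ} {S : Type u} [CommRing S] [Algebra K S] {φ ψ : Q a →ₐ[K] S} (h : φ (qX a) = ψ (qX a)) :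
    φ = ψ := rt_ext _ _ _ h

theorem ne_neg_self {x : Ω} (hx : x ≠ 0) : -x ≠ x := fun h => by
  have h2 : (2 : Ω) * x = 0 := by linear_combination -h
  rcases mul_eq_zero.1 h2 with h2 | h2
  · exact NeZero.ne (2 : K) ((algebraMap K Ω).injective (by rw [map_ofNat, map_zero, h2]))
  · exact hx h2

theorem ne_zero_of_sq {a : Kˣ} {x : Ω} (hx : x * x = algebraMap K Ω a) : x ≠ 0 := fun h => by
  rw [h, zero_mul] at hx
  exact a.ne_zero ((algebraMap K Ω).injective (hx.symm.trans (map_zero _).symm))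

theorem exists_sqrt (a : K) : ∃ x : Ω, x * x = algebraMap K Ω a := by
  haveI : NeZero ((2 : ℕ) : Ω) := ⟨fun h => NeZero.ne (2 : K) ((algebraMap K Ω).injective (by rw [map_ofNat, map_zero]; simpa using h))⟩
  obtain ⟨x, hx⟩ := IsSepClosed.exists_pow_nat_eq (algebraMap K Ω a) 2
  exact ⟨x, by rw [← pow_two, hx]⟩

/-- The cover of the point by square roots. -/
def qCover (a : Kˣ) : Twofold (K := K) K (Q a) where
  i := Algebra.ofId K _
  τ := qRoot a (-qX a) (by rw [neg_mul_neg, qX_sq])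
  comp_i := Subsingleton.elim _ _
  fib φ ψ _ := by
    have h : ψ (qX a) = φ (qX a) ∨ ψ (qX a) = -φ (qX a) :=
      mul_self_eq_mul_self_iff.1 ((sq_map a ψ).trans (sq_map a φ).symm)
    rcases h with h | h
    · exact Or.inl (q_ext h)
    · refine Or.inr (q_ext (h.trans ?_))
      rw [AlgHom.comp_apply, qRoot_qX, map_neg]
  free φ h := by
    have h' := DFunLike.congr_fun h (qX a)
    rw [AlgHom.comp_apply, qRoot_qX, map_neg] at h'
    exact ne_neg_self (ne_zero_of_sq (sq_map a φ)) h'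
  surj β := by
    obtain ⟨x, hx⟩ := exists_sqrt (a : K)
    exact ⟨qRoot a x hx, Subsingleton.elim _ _⟩

/-- The class of a unit. -/
def cls (a : Kˣ) : Ext.{u + 1} (P K 2 K) (P K 2 K) 1 := (qCover a).ξ

/-- The coordinate of the point. -/
def co (y : (stk K).obj (P K 2 K)) : ZMod 2 := ev 2 K y (Algebra.ofId K Ω)

theorem ext_co {y y' : (stk K).obj (P K 2 K)} (h : co y = co y') : y = y' :=
  (ev 2 K).injective (Finsupp.ext fun φ => by rw [Subsingleton.elim φ (Algebra.ofId K Ω)]; exact h)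

theorem co_aug {A : Type u} [CommRing A] [Algebra K A] [Algebra.Etale K A] (z : (stk K).obj (P K 2 A)) :
    co ((stk K).map (aug 2 A) z) = wt 2 A (fun _ => 1) z := by
  classical
  rw [co, ← wt_delta, aug, wt_pmap]
  exact congrArg (fun h => wt 2 A h z) (funext fun φ => if_pos (Subsingleton.elim _ _))

theorem wt_one_Q (a : Kˣ) (θ : Q a →ₐ[K] Ω) (z : (stk K).obj (P K 2 (Q a))) :
    wt 2 (Q a) (fun _ => 1) z = ev 2 _ z θ + ev 2 _ z (θ.comp (qCover a).τ) := by
  classical
  rw [← wt_delta 2 θ, ← wt_delta 2 (θ.comp (qCover a).τ), ← wt_add]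
  refine congrArg (fun h => wt 2 (Q a) h z) (funext fun φ => ?_)
  rcases (qCover a).fib θ φ (Subsingleton.elim _ _) with rfl | rfl
  · rw [if_pos rfl, if_neg (fun h => (qCover a).free φ h.symm), add_zero]
  · rw [if_neg ((qCover a).free θ), if_pos rfl, zero_add]

end Pols

section Galois

variable {M : Type u} [Field M] [Algebra K M] [FiniteDimensional K M] [IsGalois K M] [Algebra.Etale K M]

/-- The sequence of a finite Galois extension. -/
theorem shortExact_M :
    (ShortComplex.mk (kernel.ι (aug (K := K) 2 M)) (aug 2 M) (kernel.condition _)).ShortExact := shortExact_aug 2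

/-- The class of a Galois extension. -/
def ζ : Ext.{u + 1} (P K 2 K) (kernel (aug (K := K) 2 M)) 1 := (shortExact_M (K := K) (M := M)).extClass

theorem exists_coord (a : Kˣ) (r : Q a →ₐ[K] M) :
    ∃ g : kernel (aug (K := K) 2 M) ⟶ P K 2 K, cls a = (ζ (K := K) (M := M)).comp (Ext.mk₀ g) (add_zero 1) ∧
      g ≫ (qCover a).j = kernel.ι _ ≫ pmap 2 r := by
  obtain ⟨g, hg⟩ := (qCover a).exists_lift (kernel.ι (aug (K := K) 2 M) ≫ pmap 2 r) (by
    rw [Category.assoc]
    exact (congrArg (kernel.ι _ ≫ ·) (aug_comp 2 r)).trans (kernel.condition _))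
  refine ⟨g, ?_, hg⟩
  have e := ShortComplex.ShortExact.extClass_naturality (shortExact_M (K := K) (M := M)) (qCover a).shortExact
    (ShortComplex.homMk g (pmap 2 r) (𝟙 _) hg (by
      show pmap 2 r ≫ aug 2 (Q a) = aug 2 M ≫ 𝟙 _
      rw [aug_comp, Category.comp_id]))
  simpa [ζ, cls, Twofold.ξ] using e.symm

theorem co_coord (a : Kˣ) (r : Q a →ₐ[K] M) (g : kernel (aug (K := K) 2 M) ⟶ P K 2 K)
    (hg : g ≫ (qCover a).j = kernel.ι _ ≫ pmap 2 r) (θ : Q a →ₐ[K] Ω) [DecidableEq (Q a →ₐ[K] Ω)]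
    (z : (stk K).obj (kernel (aug (K := K) 2 M))) :
    co ((stk K).map g z) = wt 2 M (fun ψ => if ψ.comp r = θ then 1 else 0) ((stk K).map (kernel.ι _) z) := by
  rw [← wt_pmap 2 r (fun φ => if φ = θ then 1 else 0), wt_delta, ← stk_comp, ← hg, stk_comp, (qCover a).ev_j,
    Subsingleton.elim (θ.comp (qCover a).i) (Algebra.ofId K Ω)]
  rfl

theorem wt_one_ker (z : (stk K).obj (kernel (aug (K := K) 2 M))) :
    wt 2 M (fun _ => 1) ((stk K).map (kernel.ι _) z) = 0 := by
  rw [← co_aug, stk_kernel_ι]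
  exact (congrArg (fun y : (K →ₐ[K] Ω) →₀ ZMod 2 => y _) (map_zero (ev 2 K))).trans rfl

end Galois

theorem exists_galois (s : Set Ω) [Finite s] : ∃ (M : Type u) (_ : Field M) (_ : Algebra K M) (_ : FiniteDimensional K M)
    (_ : IsGalois K M) (_ : Algebra.Etale K M) (ι : M →ₐ[K] Ω), ∀ x ∈ s, ∃ y, ι y = x := by
  let F := FiniteGaloisIntermediateField.adjoin K s
  let M : IntermediateField K Ω := F.toIntermediateField
  haveI : FiniteDimensional K M := F.finiteDimensional
  haveI : IsGalois K M := F.isGalois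
  exact ⟨M, inferInstance, inferInstance, inferInstance, inferInstance, etale_field K M, M.val,
    fun x hx => ⟨⟨x, FiniteGaloisIntermediateField.subset_adjoin K s hx⟩, rfl⟩⟩

/-- The classes are additive. -/
theorem cls_mul (a b : Kˣ) : cls (a * b) = cls a + cls b := by
  classical
  obtain ⟨A, hA⟩ := exists_sqrt (a : K)
  obtain ⟨B, hB⟩ := exists_sqrt (b : K)
  obtain ⟨M, _, _, _, _, _, ι, hι⟩ := exists_galois ({A, B} : Set Ω)
  obtain ⟨r, rfl⟩ := hι A (by simp)
  obtain ⟨s, rfl⟩ := hι B (by simp)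
  have hr : r * r = algebraMap K M a := ι.toRingHom.injective (by
    show ι (r * r) = ι (algebraMap K M a); rw [map_mul, hA, ι.commutes])
  have hs : s * s = algebraMap K M b := ι.toRingHom.injective (by
    show ι (s * s) = ι (algebraMap K M b); rw [map_mul, hB, ι.commutes])
  have hrs : r * s * (r * s) = algebraMap K M ↑(a * b) := by rw [mul_mul_mul_comm, hr, hs, Units.val_mul, map_mul]
  have hab : ι r * ι s * (ι r * ι s) = algebraMap K Ω ↑(a * b) := by rw [mul_mul_mul_comm, hA, hB, Units.val_mul, map_mul]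
  obtain ⟨ga, ea, hga⟩ := exists_coord a (qRoot a r hr)
  obtain ⟨gb, eb, hgb⟩ := exists_coord b (qRoot b s hs)
  obtain ⟨gc, ec, hgc⟩ := exists_coord (a * b) (qRoot (a * b) (r * s) hrs)
  suffices h : gc = ga + gb by rw [ea, eb, ec, h, Ext.mk₀_add, Ext.comp_add]
  refine hom_ext_stk fun z => ext_co ?_
  rw [stk_add]
  show co _ = ev 2 K ((stk K).map ga z + (stk K).map gb z) _
  rw [map_add, Finsupp.add_apply]
  show co ((stk K).map gc z) = co ((stk K).map ga z) + co ((stk K).map gb z)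
  rw [co_coord a _ ga hga (qRoot a (ι r) hA) z, co_coord b _ gb hgb (qRoot b (ι s) hB) z,
    co_coord (a * b) _ gc hgc (qRoot (a * b) (ι r * ι s) hab) z, ← wt_add]
  refine CharTwo.add_eq_zero.1 ?_
  rw [← wt_add]
  refine (congrArg (fun h => wt 2 M h _) (funext fun ψ => ?_)).trans (wt_one_ker z)
  have h1 : ψ.comp (qRoot a r hr) = qRoot a (ι r) hA ↔ ψ r = ι r :=
    ⟨fun h => by simpa [AlgHom.comp_apply, qRoot_qX] using DFunLike.congr_fun h (qX a),
      fun h => q_ext (by rw [AlgHom.comp_apply, qRoot_qX, qRoot_qX, h])⟩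
  have h2 : ψ.comp (qRoot b s hs) = qRoot b (ι s) hB ↔ ψ s = ι s :=
    ⟨fun h => by simpa [AlgHom.comp_apply, qRoot_qX] using DFunLike.congr_fun h (qX b),
      fun h => q_ext (by rw [AlgHom.comp_apply, qRoot_qX, qRoot_qX, h])⟩
  have h3 : ψ.comp (qRoot (a * b) (r * s) hrs) = qRoot (a * b) (ι r * ι s) hab ↔ ψ r * ψ s = ι r * ι s :=
    ⟨fun h => by simpa [AlgHom.comp_apply, qRoot_qX] using DFunLike.congr_fun h (qX (a * b)),
      fun h => q_ext (by rw [AlgHom.comp_apply, qRoot_qX, qRoot_qX, map_mul, h])⟩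
  have hr0 : ι r ≠ 0 := ne_zero_of_sq hA
  have hs0 : ι s ≠ 0 := ne_zero_of_sq hB
  have nr := ne_neg_self hr0
  have ns := ne_neg_self hs0
  have nrs := ne_neg_self (mul_ne_zero hr0 hs0)
  have cr : ψ r = ι r ∨ ψ r = -ι r := mul_self_eq_mul_self_iff.1 (by rw [← map_mul, hr, ψ.commutes, hA])
  have cs : ψ s = ι s ∨ ψ s = -ι s := mul_self_eq_mul_self_iff.1 (by rw [← map_mul, hs, ψ.commutes, hB])
  simp only [h1, h2, h3]
  rcases cr with cr | cr <;> rcases cs with cs | cs <;>
    simp [cr, cs, nr, ns, nrs, neg_mul, mul_neg, neg_neg] <;> decide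

section Steinberg

variable {a b : Kˣ} (hab : (a : K) + b = 1)

/-- The polynomial of the nested square roots. -/
def wPol (a : Kˣ) : Polynomial K := (Polynomial.X ^ 2 - Polynomial.C 1) ^ 2 - Polynomial.C (a : K)

theorem monic_wPol (a : Kˣ) : (wPol a).Monic := by
  refine ((Polynomial.monic_X_pow_sub_C (1 : K) two_ne_zero).pow 2).sub_of_left ?_
  refine lt_of_le_of_lt Polynomial.degree_C_le ?_
  rw [Polynomial.degree_pow, Polynomial.degree_X_pow_sub_C two_pos]
  decide

include hab in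
theorem separable_wPol : (wPol a).Separable := by
  have hc : (4 : K) * ((a : K) * b) ≠ 0 := by
    refine mul_ne_zero ?_ (mul_ne_zero a.ne_zero b.ne_zero)
    rw [show (4 : K) = 2 * 2 by norm_num]
    exact mul_ne_zero (NeZero.ne 2) (NeZero.ne 2)
  rw [Polynomial.separable_def']
  let u : Polynomial K := Polynomial.X ^ 2 - Polynomial.C 1
  refine ⟨-(Polynomial.C (((4 : K) * ((a : K) * b))⁻¹) * 4 * (u + Polynomial.C (b : K))),
    Polynomial.C (((4 : K) * ((a : K) * b))⁻¹) * (Polynomial.X * (u - Polynomial.C (a : K))), ?_⟩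
  have hd : Polynomial.derivative (wPol a) = 4 * Polynomial.X * u := by
    simp only [wPol, u, Polynomial.derivative_sub, Polynomial.derivative_pow, Polynomial.derivative_X,
      Polynomial.derivative_C, sub_zero, mul_one, Nat.cast_ofNat, Polynomial.C_eq_natCast, pow_one,
      Nat.add_one_sub_one]
    simp only [show Polynomial.C (2 : K) = 2 from map_ofNat _ 2]
    ring
  have hb : Polynomial.C (b : K) = 1 - Polynomial.C (a : K) := by
    rw [← map_one Polynomial.C, ← map_sub, ← hab]; ring_nf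
  have h4 : Polynomial.C (((4 : K) * ((a : K) * b))⁻¹) * (4 * (Polynomial.C (a : K) * Polynomial.C (b : K))) = 1 := by
    rw [← map_mul Polynomial.C (a : K), show (4 : Polynomial K) = Polynomial.C (4 : K) from (map_ofNat _ 4).symm,
      ← map_mul, ← map_mul, inv_mul_cancel₀ hc, map_one]
  rw [hd]
  rw [hb] at h4 ⊢
  simp only [wPol, u, map_one]
  linear_combination h4

/-- The algebra of nested square roots. -/
abbrev W : Type u := Rt (wPol a) (monic_wPol a) (separable_wPol hab)

/-- The generator. -/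
def wX : W hab := (pair (wPol a) (monic_wPol a) (separable_wPol hab)).X

theorem aeval_wPol {S : Type u} [CommRing S] [Algebra K S] (y : S) :
    aeval y (wPol a) = 0 ↔ (1 - y * y) * (1 - y * y) = algebraMap K S a := by
  rw [wPol, map_sub, map_pow, map_sub, map_pow, Polynomial.aeval_X, Polynomial.aeval_C, Polynomial.aeval_C, map_one,
    sub_eq_zero, show (y ^ 2 - 1) ^ 2 = (1 - y * y) * (1 - y * y) by ring]

/-- The map given by a nested root. -/
def wRoot {S : Type u} [CommRing S] [Algebra K S] (y : S) (hy : (1 - y * y) * (1 - y * y) = algebraMap K S a) :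
    W hab →ₐ[K] S :=
  root _ _ _ y ((aeval_wPol y).2 hy)

theorem wRoot_wX {S : Type u} [CommRing S] [Algebra K S] (y : S)
    (hy : (1 - y * y) * (1 - y * y) = algebraMap K S a) : wRoot hab y hy (wX hab) = y := root_X _ _ _ y _

theorem wX_eq : (1 - wX hab * wX hab) * (1 - wX hab * wX hab) = algebraMap K (W hab) a :=
  (aeval_wPol _).1 StandardEtalePair.hasMap_X.1

theorem w_map {S : Type u} [CommRing S] [Algebra K S] (φ : W hab →ₐ[K] S) :
    (1 - φ (wX hab) * φ (wX hab)) * (1 - φ (wX hab) * φ (wX hab)) = algebraMap K S a := by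
  simpa using congrArg φ (wX_eq hab)

theorem w_ext {S : Type u} [CommRing S] [Algebra K S] {φ ψ : W hab →ₐ[K] S} (h : φ (wX hab) = ψ (wX hab)) : φ = ψ :=
  rt_ext _ _ _ h

include hab in
theorem ne_zero_of_w {y : Ω} (hy : (1 - y * y) * (1 - y * y) = algebraMap K Ω a) : y ≠ 0 := fun h => by
  subst h
  simp only [mul_zero, sub_zero, mul_one] at hy
  have ha : (a : K) = 1 := (algebraMap K Ω).injective (hy.symm.trans (map_one _).symm)
  rw [ha] at hab
  exact b.ne_zero (add_eq_left.1 hab)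

/-- The cover of square roots by nested roots. -/
def wCover : Twofold (K := K) (Q a) (W hab) where
  i := qRoot a (1 - wX hab * wX hab) (wX_eq hab)
  τ := wRoot hab (-wX hab) (by rw [neg_mul_neg]; exact wX_eq hab)
  comp_i := q_ext (by rw [AlgHom.comp_apply, qRoot_qX, map_sub, map_one, map_mul, wRoot_wX, neg_mul_neg])
  fib φ ψ h := by
    have h' := DFunLike.congr_fun h (qX a)
    rw [AlgHom.comp_apply, AlgHom.comp_apply, qRoot_qX, map_sub, map_sub, map_one, map_one, map_mul, map_mul,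
      sub_right_inj] at h'
    rcases mul_self_eq_mul_self_iff.1 h' with h' | h'
    · exact Or.inl (w_ext hab h')
    · refine Or.inr (w_ext hab (h'.trans ?_))
      rw [AlgHom.comp_apply, wRoot_wX, map_neg]
  free φ h := by
    have h' := DFunLike.congr_fun h (wX hab)
    rw [AlgHom.comp_apply, wRoot_wX, map_neg] at h'
    exact ne_neg_self (ne_zero_of_w hab (w_map hab φ)) h'
  surj β := by
    haveI : NeZero ((2 : ℕ) : Ω) := ⟨fun h => NeZero.ne (2 : K) ((algebraMap K Ω).injective (by rw [map_ofNat, map_zero]; simpa using h))⟩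
    obtain ⟨y, hy⟩ := IsSepClosed.exists_pow_nat_eq (1 - β (qX a)) 2
    rw [pow_two] at hy
    refine ⟨wRoot hab y (by rw [hy]; simpa using sq_map a β), q_ext ?_⟩
    rw [AlgHom.comp_apply, qRoot_qX, map_sub, map_one, map_mul, wRoot_wX, hy, sub_sub_cancel]

include hab in
/-- The Steinberg relation. -/
theorem cls_steinberg : (cls a).comp (cls b) (show 1 + 1 = 2 from rfl) = 0 := by
  classical
  haveI : NeZero ((2 : ℕ) : Ω) := ⟨fun h => NeZero.ne (2 : K) ((algebraMap K Ω).injective (by rw [map_ofNat, map_zero]; simpa using h))⟩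
  obtain ⟨x, hx⟩ := exists_sqrt (a : K)
  obtain ⟨cp, hcp⟩ := IsSepClosed.exists_pow_nat_eq (1 - x) 2
  obtain ⟨cm, hcm⟩ := IsSepClosed.exists_pow_nat_eq (1 + x) 2
  rw [pow_two] at hcp hcm
  obtain ⟨M, _, _, _, _, _, ι, hι⟩ := exists_galois ({cp, cm} : Set Ω)
  obtain ⟨y₁, rfl⟩ := hι cp (by simp)
  obtain ⟨y₂, rfl⟩ := hι cm (by simp)
  have hb1 : (1 - x) * (1 + x) = algebraMap K Ω b := by
    rw [show (1 - x) * (1 + x) = 1 - x * x by ring, hx, ← map_one (algebraMap K Ω), ← map_sub, ← hab]; ring_nf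
  have q1 : (1 - ι y₁ * ι y₁) * (1 - ι y₁ * ι y₁) = algebraMap K Ω a := by rw [hcp, sub_sub_cancel, hx]
  have q2 : (1 - ι y₂ * ι y₂) * (1 - ι y₂ * ι y₂) = algebraMap K Ω a := by rw [hcm, ← hx]; ring
  have qb : ι y₁ * ι y₂ * (ι y₁ * ι y₂) = algebraMap K Ω b := by rw [mul_mul_mul_comm, hcp, hcm, hb1]
  have hy1 : (1 - y₁ * y₁) * (1 - y₁ * y₁) = algebraMap K M a := ι.toRingHom.injective (by
    show ι _ = ι _; simpa using q1)
  have hy2 : (1 - y₂ * y₂) * (1 - y₂ * y₂) = algebraMap K M a := ι.toRingHom.injective (by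
    show ι _ = ι _; simpa using q2)
  have hsum : (1 - y₂ * y₂) = -(1 - y₁ * y₁) := ι.toRingHom.injective (by
    show ι _ = ι _; simp only [map_sub, map_neg, map_one, map_mul, hcp, hcm]; ring)
  have hyb : y₁ * y₂ * (y₁ * y₂) = algebraMap K M b := ι.toRingHom.injective (by
    show ι _ = ι _; simpa using qb)
  let m₁ := wRoot hab y₁ hy1
  let m₂ := wRoot hab y₂ hy2
  let T := wCover hab
  let μ : P K 2 M ⟶ P K 2 (W hab) := pmap 2 m₁ + pmap 2 m₂
  have hsq : ∀ ψ : M →ₐ[K] Ω, ψ (1 - y₁ * y₁) * ψ (1 - y₁ * y₁) = algebraMap K Ω a := fun ψ => by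
    rw [← map_mul, hy1, ψ.commutes]
  have hμ : μ ≫ pmap 2 T.i = aug 2 M ≫ (qCover a).j := by
    refine hom_ext_stk fun z => (ev 2 (Q a)).injective (Finsupp.ext fun θ => ?_)
    rw [stk_comp, stk_comp, (qCover a).ev_j, Subsingleton.elim (θ.comp (qCover a).i) (Algebra.ofId K Ω)]
    show _ = co _
    rw [co_aug, ← wt_delta, stk_add, map_add, map_add, wt_pmap, wt_pmap, wt_pmap, wt_pmap, ← wt_add]
    refine congrArg (fun h => wt 2 M h z) (funext fun ψ => ?_)
    have e1 : (ψ.comp m₁).comp T.i = θ ↔ ψ (1 - y₁ * y₁) = θ (qX a) :=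
      ⟨fun h => by simpa [T, wCover, m₁, AlgHom.comp_apply, qRoot_qX, wRoot_wX] using DFunLike.congr_fun h (qX a),
        fun h => q_ext (by simpa [T, wCover, m₁, AlgHom.comp_apply, qRoot_qX, wRoot_wX] using h)⟩
    have e2 : (ψ.comp m₂).comp T.i = θ ↔ -ψ (1 - y₁ * y₁) = θ (qX a) := by
      rw [← map_neg, ← hsum]
      exact ⟨fun h => by simpa [T, wCover, m₂, AlgHom.comp_apply, qRoot_qX, wRoot_wX] using DFunLike.congr_fun h (qX a),
        fun h => q_ext (by simpa [T, wCover, m₂, AlgHom.comp_apply, qRoot_qX, wRoot_wX] using h)⟩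
    simp only [e1, e2]
    have hne := ne_neg_self (ne_zero_of_sq (hsq ψ))
    rcases mul_self_eq_mul_self_iff.1 ((sq_map a θ).trans (hsq ψ).symm) with h | h <;> rw [h]
    · rw [if_pos rfl, if_neg hne, add_zero]
    · rw [if_neg (Ne.symm hne), if_pos rfl, zero_add]
  obtain ⟨g, hg⟩ := T.exists_lift (kernel.ι (aug (K := K) 2 M) ≫ μ)
    (by rw [Category.assoc, hμ, kernel.condition_assoc, zero_comp])
  have hnat := ShortComplex.ShortExact.extClass_naturality (shortExact_M (K := K) (M := M)) T.shortExact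
    (ShortComplex.homMk g μ (qCover a).j hg hμ)
  simp only [ShortComplex.homMk_τ₁, ShortComplex.homMk_τ₃] at hnat
  obtain ⟨gb, eb, hgb⟩ := exists_coord b (qRoot b (y₁ * y₂) hyb)
  have hkey : g ≫ aug 2 (Q a) = gb := by
    refine hom_ext_stk fun z => ext_co ?_
    let θ : Q a →ₐ[K] Ω := qRoot a x hx
    rw [stk_comp, co_aug, wt_one_Q a θ, co_coord b _ gb hgb (qRoot b (ι y₁ * ι y₂) qb) z]
    let cP : W hab →ₐ[K] Ω := wRoot hab (ι y₁) q1
    let cM : W hab →ₐ[K] Ω := wRoot hab (ι y₂) q2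
    have hP : cP.comp T.i = θ := q_ext (by
      simp [cP, T, wCover, θ, AlgHom.comp_apply, qRoot_qX, wRoot_wX, hcp])
    have hM : cM.comp T.i = θ.comp (qCover a).τ := q_ext (by
      simp [cM, T, wCover, θ, qCover, AlgHom.comp_apply, qRoot_qX, wRoot_wX, hcm])
    rw [← hM, ← hP, ← T.ev_j, ← T.ev_j, ← stk_comp, hg, stk_comp, ← wt_delta, ← wt_delta, stk_add, map_add,
      map_add, wt_pmap, wt_pmap, wt_pmap, wt_pmap, ← wt_add, ← wt_add, ← wt_add]
    refine CharTwo.add_eq_zero.1 ?_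
    rw [← wt_add]
    refine (congrArg (fun h => wt 2 M h _) (funext fun ψ => ?_)).trans (wt_one_ker z)
    have f : ∀ (y : M) (hy : (1 - y * y) * (1 - y * y) = algebraMap K M a) (c : Ω)
        (hc : (1 - c * c) * (1 - c * c) = algebraMap K Ω a),
        ψ.comp (wRoot hab y hy) = wRoot hab c hc ↔ ψ y = c := fun y hy c hc =>
      ⟨fun h => by simpa [AlgHom.comp_apply, wRoot_wX] using DFunLike.congr_fun h (wX hab),
        fun h => w_ext hab (by simpa [AlgHom.comp_apply, wRoot_wX] using h)⟩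
    have f3 : ψ.comp (qRoot b (y₁ * y₂) hyb) = qRoot b (ι y₁ * ι y₂) qb ↔ ψ y₁ * ψ y₂ = ι y₁ * ι y₂ :=
      ⟨fun h => by simpa [AlgHom.comp_apply, qRoot_qX] using DFunLike.congr_fun h (qX b),
        fun h => q_ext (by simpa [AlgHom.comp_apply, qRoot_qX] using h)⟩
    simp only [cP, cM, m₁, m₂, f, f3]
    have hu := ne_zero_of_w hab q1
    have hv := ne_zero_of_w hab q2
    have huv : ι y₁ * ι y₁ ≠ ι y₂ * ι y₂ := fun h => by
      rw [hcp, hcm] at h
      exact ne_neg_self (ne_zero_of_sq hx) (by linear_combination h)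
    have n1 := ne_neg_self hu
    have n2 := ne_neg_self hv
    have n3 := ne_neg_self (mul_ne_zero hu hv)
    have n4 : ι y₁ ≠ ι y₂ := fun h => huv (by rw [h])
    have n5 : ι y₁ ≠ -ι y₂ := fun h => huv (by rw [h, neg_mul_neg])
    have n6 : ι y₂ ≠ -ι y₁ := fun h => huv (by rw [h, neg_mul_neg])
    have hsum' : 1 - ψ y₂ * ψ y₂ = -(1 - ψ y₁ * ψ y₁) := by simpa using congrArg ψ hsum
    have hcase : (ψ y₁ * ψ y₁ = ι y₁ * ι y₁ ∧ ψ y₂ * ψ y₂ = ι y₂ * ι y₂) ∨
        (ψ y₁ * ψ y₁ = ι y₂ * ι y₂ ∧ ψ y₂ * ψ y₂ = ι y₁ * ι y₁) := by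
      have h := (hsq ψ).trans hx.symm
      simp only [map_sub, map_one, map_mul] at h
      rw [hcp, hcm]
      rcases mul_self_eq_mul_self_iff.1 h with h | h
      · exact Or.inl ⟨by linear_combination -h, by linear_combination -hsum' + h⟩
      · exact Or.inr ⟨by linear_combination -h, by linear_combination -hsum' + h⟩
    rcases hcase with ⟨c1, c2⟩ | ⟨c1, c2⟩ <;> rcases mul_self_eq_mul_self_iff.1 c1 with c1 | c1 <;>
      rcases mul_self_eq_mul_self_iff.1 c2 with c2 | c2 <;>
      simp [c1, c2, n1, n2, n3, n4, Ne.symm n4, n5, Ne.symm n5, n6, Ne.symm n6, neg_mul, mul_neg, neg_neg,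
        mul_comm (ι y₂) (ι y₁)] <;> decide
  have hb' : cls b = (Ext.mk₀ (qCover a).j).comp (T.ξ.comp (Ext.mk₀ (aug 2 (Q a))) (add_zero 1)) (zero_add 1) := by
    rw [eb, ← hkey, ← Ext.mk₀_comp_mk₀, ← Ext.comp_assoc_of_second_deg_zero _ _ _ (add_zero 1),
      show (ζ (K := K) (M := M)).comp (Ext.mk₀ g) (add_zero 1) = (Ext.mk₀ (qCover a).j).comp T.ξ (zero_add 1) from hnat,
      Ext.comp_assoc_of_third_deg_zero]
  rw [hb']
  exact ((qCover a).shortExact).extClass_comp_assoc _

end Steinberg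

end Groth.L28.Serre
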