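import Mathlib.Algebra.Ring.Semireal.Defs
import Mathlib.Algebra.Ring.SumsOfSquares
import Mathlib.FieldTheory.IsAlgClosed.AlgebraicClosure
import Mathlib.FieldTheory.IntermediateField.Adjoin.Algebra
import Mathlib.RingTheory.AdjoinRoot
import Mathlib.RingTheory.UniqueFactorizationDomain.Basic
import Mathlib.Order.Zorn
import Mathlib.Tactic.LinearCombination

/-! # Maximal semireal algebraic extensions -/

set_option autoImplicit false
set_option linter.style.haveILetI false
set_option linter.unusedSectionVars false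

universe u v

open Polynomial
open scoped IntermediateField

noncomputable section

namespace Groth.L28.Serre.RealExt

theorem map_sumSq {A : Type u} {B : Type v} [CommRing A] [CommRing B] (f : A →+* B) {s : A} (h : IsSumSq s) :
    IsSumSq (f s) := by
  induction h with
  | zero => rw [map_zero]; exact IsSumSq.zero
  | sq_add a hs ih => rw [map_add, map_mul]; exact IsSumSq.sq_add _ ih

theorem semireal_of_hom {A : Type u} {B : Type v} [CommRing A] [CommRing B] (f : A →+* B) (h : IsSemireal B) :
    IsSemireal A :=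
  isSemireal_iff_not_isSumSq_neg_one.2 fun h' =>
    isSemireal_iff_not_isSumSq_neg_one.1 h (by simpa using map_sumSq f h')

variable {F : Type u} [Field F] [IsSemireal F]

theorem isSumSq_inv {s : F} (h : IsSumSq s) : IsSumSq s⁻¹ := by
  rcases eq_or_ne s 0 with rfl | hs
  · rw [inv_zero]; exact IsSumSq.zero
  · rw [show s⁻¹ = (s⁻¹ * s⁻¹) * s by field_simp]
    exact (IsSumSq.mul_self _).mul h

theorem eq_zero_of_add {x s : F} (hs : IsSumSq s) (h : x * x + s = 0) : x = 0 := by
  by_contra hx
  refine IsSemireal.not_isSumSq_neg_one F ?_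
  rw [show (-1 : F) = (x⁻¹ * x⁻¹) * s by field_simp; linear_combination -h]
  exact (IsSumSq.mul_self _).mul hs

/-- Degree and leading coefficient of a sum of squares of polynomials. -/
theorem sumSq_poly {S : F[X]} (h : IsSumSq S) : Even S.natDegree ∧ IsSumSq S.leadingCoeff := by
  induction h with
  | zero => exact ⟨by simp, by simp⟩
  | @sq_add a S hS ih =>
    rcases eq_or_ne a 0 with rfl | ha
    · simpa using ih
    rcases eq_or_ne S 0 with rfl | hS0
    · rw [add_zero, natDegree_mul ha ha, leadingCoeff_mul]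
      exact ⟨⟨_, rfl⟩, IsSumSq.mul_self _⟩
    rcases lt_trichotomy (a * a).natDegree S.natDegree with h | h | h
    · rw [natDegree_add_eq_right_of_natDegree_lt h, leadingCoeff_add_of_degree_lt (degree_lt_degree h)]
      exact ih
    · have hlc : (a * a).leadingCoeff + S.leadingCoeff ≠ 0 := fun e => by
        rw [leadingCoeff_mul] at e
        exact ha (leadingCoeff_eq_zero.1 (eq_zero_of_add ih.2 e))
      have hdeg : (a * a).degree = S.degree := by
        rw [degree_eq_natDegree (mul_ne_zero ha ha), degree_eq_natDegree hS0, h]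
      rw [leadingCoeff_add_of_degree_eq hdeg hlc, leadingCoeff_mul,
        natDegree_eq_of_degree_eq ((degree_add_eq_of_leadingCoeff_add_ne_zero hlc).trans
          (show max (a * a).degree S.degree = S.degree by rw [hdeg, max_self]))]
      exact ⟨ih.1, IsSumSq.sq_add _ ih.2⟩
    · rw [natDegree_add_eq_left_of_natDegree_lt h, leadingCoeff_add_of_degree_lt' (degree_lt_degree h),
        natDegree_mul ha ha, leadingCoeff_mul]
      exact ⟨⟨_, rfl⟩, IsSumSq.mul_self _⟩

theorem exists_odd_factor : ∀ (n : ℕ) (q : F[X]), q.natDegree = n → Odd n →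
    ∃ r : F[X], r.Monic ∧ Irreducible r ∧ r ∣ q ∧ Odd r.natDegree := by
  intro n
  induction n using Nat.strong_induction_on with
  | _ n ih =>
    intro q hq hn
    have hpos : 0 < q.natDegree := by rw [hq]; exact hn.pos
    have hq0 : q ≠ 0 := fun h => by rw [h, natDegree_zero] at hpos; exact lt_irrefl _ hpos
    obtain ⟨r, hrm, hr, q', rfl⟩ := exists_monic_irreducible_factor q (not_isUnit_of_natDegree_pos q hpos)
    rcases Nat.even_or_odd r.natDegree with he | ho
    · have hd : r.natDegree + q'.natDegree = n := by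
        rw [← hq, natDegree_mul hr.ne_zero (right_ne_zero_of_mul hq0)]
      have := hr.natDegree_pos
      obtain ⟨r', h1, h2, h3, h4⟩ := ih q'.natDegree (by omega) q' rfl (by
        rw [← hd] at hn
        exact (Nat.odd_add'.1 hn).2 he)
      exact ⟨r', h1, h2, dvd_mul_of_dvd_right h3 r, h4⟩
    · exact ⟨r, hrm, hr, dvd_mul_right r q', ho⟩

/-- An extension of odd degree of a semireal field is semireal. -/
theorem semireal_adjoinRoot : ∀ (n : ℕ) (p : F[X]), p.Monic → Irreducible p → p.natDegree = n → Odd n →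
    IsSemireal (AdjoinRoot p) := by
  intro n
  induction n using Nat.strong_induction_on with
  | _ n ih =>
    intro p hm hp hd hn
    haveI := Fact.mk hp
    refine isSemireal_iff_not_isSumSq_neg_one.2 fun hneg => ?_
    have key : ∀ s : AdjoinRoot p, IsSumSq s → ∃ S : F[X], IsSumSq S ∧ AdjoinRoot.mk p S = s ∧
        S.natDegree ≤ 2 * (n - 1) := by
      intro s hs
      induction hs with
      | zero => exact ⟨0, IsSumSq.zero, map_zero _, by simp⟩
      | @sq_add a s hs ih' =>
        obtain ⟨S, hS, rfl, hSd⟩ := ih'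
        obtain ⟨g, rfl⟩ := AdjoinRoot.mk_surjective a
        have hg : (g %ₘ p).natDegree ≤ n - 1 := by
          have := natDegree_modByMonic_lt g hm (fun e => hp.not_isUnit (e ▸ isUnit_one))
          omega
        refine ⟨(g %ₘ p) * (g %ₘ p) + S, IsSumSq.sq_add _ hS, ?_, ?_⟩
        · rw [map_add, map_mul, show AdjoinRoot.mk p (g %ₘ p) = AdjoinRoot.mk p g from
            AdjoinRoot.mk_eq_mk.2 ⟨-(g /ₘ p), by linear_combination modByMonic_add_div g (q := p)⟩]
        · exact (natDegree_add_le _ _).trans (max_le ((natDegree_mul_le).trans (by omega)) hSd)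
    obtain ⟨S, hS, hSe, hSd⟩ := key _ hneg
    let T : F[X] := 1 * 1 + S
    have hT : IsSumSq T := IsSumSq.sq_add _ hS
    have hT0 : T ≠ 0 := fun e => IsSemireal.not_isSumSq_neg_one F (by
      have h1 := map_sumSq (evalRingHom (0 : F)) hS
      have h2 := congrArg (eval 0) e
      simp only [T, mul_one, eval_add, eval_one, eval_zero] at h2
      rwa [coe_evalRingHom, eq_neg_of_add_eq_zero_right h2] at h1)
    have hdvd : p ∣ T := AdjoinRoot.mk_eq_zero.1 (by simp [T, hSe])
    obtain ⟨q, hq⟩ := hdvd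
    have hq0 : q ≠ 0 := fun e => hT0 (by rw [hq, e, mul_zero])
    have hTd : T.natDegree = n + q.natDegree := by rw [hq, natDegree_mul hp.ne_zero hq0, hd]
    have hTle : T.natDegree ≤ 2 * (n - 1) := (natDegree_add_le _ _).trans (max_le (by simp) hSd)
    have hqo : Odd q.natDegree := by
      have := (sumSq_poly hT).1
      rw [hTd] at this
      rcases Nat.even_or_odd q.natDegree with he | ho
      · exact absurd ((Nat.even_add.1 this).2 he) (Nat.not_even_iff_odd.2 hn)
      · exact ho
    obtain ⟨r, hrm, hr, hrq, hro⟩ := exists_odd_factor q.natDegree q rfl hqo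
    have hrlt : r.natDegree < n := by
      have h1 : r.natDegree ≤ q.natDegree := natDegree_le_of_dvd hrq hq0
      have h2 : n + q.natDegree ≤ 2 * (n - 1) := hTd ▸ hTle
      have h3 : 0 < n := hn.pos
      omega
    haveI := Fact.mk hr
    haveI hR := ih r.natDegree hrlt r hrm hr rfl hro
    refine IsSemireal.not_isSumSq_neg_one (AdjoinRoot r) ?_
    have h1 : AdjoinRoot.mk r T = 0 := AdjoinRoot.mk_eq_zero.2 (hq ▸ dvd_mul_of_dvd_right hrq p)
    have h2 : AdjoinRoot.mk r S = -1 := by
      simp only [T, mul_one, map_add, map_one] at h1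
      exact eq_neg_of_add_eq_zero_right h1
    exact h2 ▸ map_sumSq _ hS

variable {Ω : Type v} [Field Ω] [Algebra F Ω] [Algebra.IsAlgebraic F Ω]

theorem semireal_adjoin_odd (x : Ω) (hx : Odd (minpoly F x).natDegree) : IsSemireal F⟮x⟯ :=
  haveI hi : IsIntegral F x := (Algebra.IsAlgebraic.isAlgebraic x).isIntegral
  haveI := semireal_adjoinRoot _ _ (minpoly.monic hi) (minpoly.irreducible hi) rfl hx
  semireal_of_hom (IntermediateField.adjoinRootEquivAdjoin F hi).symm.toAlgHom.toRingHom this

theorem exists_form (a : F) (s : Ω) (hs : s * s = algebraMap F Ω a) (z : F⟮s⟯) :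
    ∃ x y : F, (z : Ω) = algebraMap F Ω x + algebraMap F Ω y * s := by
  suffices H : ∀ t ∈ Algebra.adjoin F ({s} : Set Ω), ∃ x y : F, t = algebraMap F Ω x + algebraMap F Ω y * s by
    refine H _ ?_
    rw [← IntermediateField.adjoin_simple_toSubalgebra_of_isAlgebraic (Algebra.IsAlgebraic.isAlgebraic (R := F) s)]
    exact z.2
  intro t ht
  induction ht using Algebra.adjoin_induction with
  | mem z h => exact ⟨0, 1, by rw [h]; simp⟩
  | algebraMap r => exact ⟨r, 0, by simp⟩
  | add z w _ _ hz hw =>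
    obtain ⟨x, y, rfl⟩ := hz
    obtain ⟨x', y', rfl⟩ := hw
    exact ⟨x + x', y + y', by simp only [map_add]; ring⟩
  | mul z w _ _ hz hw =>
    obtain ⟨x, y, rfl⟩ := hz
    obtain ⟨x', y', rfl⟩ := hw
    exact ⟨x * x' + y * y' * a, x * y' + y * x', by simp only [map_add, map_mul, ← hs]; ring⟩

theorem exists_neg_one (a : F) (s : Ω) (hs : s * s = algebraMap F Ω a) (hsF : s ∉ Set.range (algebraMap F Ω))
    (h : ¬ IsSemireal F⟮s⟯) : ∃ A B : F, IsSumSq A ∧ IsSumSq B ∧ -1 = A + B * a := by
  rw [isSemireal_iff_not_isSumSq_neg_one, not_not] at h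
  have key : ∀ z : F⟮s⟯, IsSumSq z → ∃ A B C : F, IsSumSq A ∧ IsSumSq B ∧
      (z : Ω) = algebraMap F Ω (A + B * a) + algebraMap F Ω C * s := by
    intro z hz
    induction hz with
    | zero => exact ⟨0, 0, 0, IsSumSq.zero, IsSumSq.zero, by simp⟩
    | @sq_add w z hz ih =>
      obtain ⟨A, B, C, hA, hB, hz'⟩ := ih
      obtain ⟨x, y, hw⟩ := exists_form a s hs w
      refine ⟨x * x + A, y * y + B, 2 * x * y + C, IsSumSq.sq_add _ hA, IsSumSq.sq_add _ hB, ?_⟩
      rw [IntermediateField.coe_add, IntermediateField.coe_mul, hz', hw]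
      simp only [map_add, map_mul, map_ofNat, ← hs]
      ring
  obtain ⟨A, B, C, hA, hB, he⟩ := key _ h
  rw [IntermediateField.coe_neg, IntermediateField.coe_one] at he
  have hC : C = 0 := by
    by_contra hC
    refine hsF ⟨(-1 - (A + B * a)) / C, ?_⟩
    rw [map_div₀, div_eq_iff ((_root_.map_ne_zero _).2 hC), map_sub, map_neg, map_one, he]
    ring
  rw [hC, map_zero, zero_mul, add_zero] at he
  exact ⟨A, B, hA, hB, (algebraMap F Ω).injective (by rw [map_neg, map_one, he])⟩

theorem semireal_adjoin_sqrt (a : F) (ha : IsSumSq a) (s : Ω) (hs : s * s = algebraMap F Ω a)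
    (hsF : s ∉ Set.range (algebraMap F Ω)) : IsSemireal F⟮s⟯ := by
  by_contra h
  obtain ⟨A, B, hA, hB, he⟩ := exists_neg_one a s hs hsF h
  exact IsSemireal.not_isSumSq_neg_one F (he ▸ hA.add (hB.mul ha))

/-- A semireal field without semireal extensions inside `Ω`. -/
structure Maximal (F : Type u) (Ω : Type v) [Field F] [Field Ω] [Algebra F Ω] : Prop where
  eq : ∀ x : Ω, IsSemireal F⟮x⟯ → x ∈ Set.range (algebraMap F Ω)

theorem Maximal.isSquare_of_sumSq [IsAlgClosed Ω] (hm : Maximal F Ω) {a : F} (ha : IsSumSq a) : IsSquare a := by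
  obtain ⟨s, hs⟩ := IsAlgClosed.exists_eq_mul_self (algebraMap F Ω a)
  by_cases hsF : s ∈ Set.range (algebraMap F Ω)
  · obtain ⟨r, rfl⟩ := hsF
    exact ⟨r, (algebraMap F Ω).injective (by rw [map_mul]; exact hs)⟩
  · exact absurd (hm.eq s (semireal_adjoin_sqrt a ha s hs.symm hsF)) hsF

theorem Maximal.isSquare_or [IsAlgClosed Ω] (hm : Maximal F Ω) (a : F) : IsSquare a ∨ IsSquare (-a) := by
  obtain ⟨s, hs⟩ := IsAlgClosed.exists_eq_mul_self (algebraMap F Ω a)
  by_cases hsF : s ∈ Set.range (algebraMap F Ω)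
  · obtain ⟨r, rfl⟩ := hsF
    exact Or.inl ⟨r, (algebraMap F Ω).injective (by rw [map_mul]; exact hs)⟩
  refine Or.inr (hm.isSquare_of_sumSq ?_)
  obtain ⟨A, B, hA, hB, he⟩ := exists_neg_one a s hs.symm hsF fun h => hsF (hm.eq s h)
  have hB0 : B ≠ 0 := fun hB0 => IsSemireal.not_isSumSq_neg_one F (by rw [he, hB0, zero_mul, add_zero]; exact hA)
  rw [show -a = (1 * 1 + A) * B⁻¹ by field_simp; linear_combination he]
  exact (IsSumSq.sq_add _ hA).mul (isSumSq_inv hB)

theorem Maximal.natDegree_eq_one (hm : Maximal F Ω) (x : Ω) (hx : Odd (minpoly F x).natDegree) :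
    x ∈ Set.range (algebraMap F Ω) :=
  hm.eq x (semireal_adjoin_odd x hx)

variable (K : Type u) [Field K] [IsSemireal K] (Ω' : Type u) [Field Ω'] [Algebra K Ω'] [Algebra.IsAlgebraic K Ω']

theorem exists_maximal : ∃ R : IntermediateField K Ω', IsSemireal R ∧ Maximal R Ω' := by
  let S : Set (IntermediateField K Ω') := {E | IsSemireal E}
  have hbot : (⊥ : IntermediateField K Ω') ∈ S :=
    semireal_of_hom (IntermediateField.botEquiv K Ω').toAlgHom.toRingHom ‹_›
  obtain ⟨R, hR⟩ := zorn_le₀ S fun c hc hchain => by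
    rcases c.eq_empty_or_nonempty with rfl | ⟨E₀, hE₀⟩
    · exact ⟨⊥, hbot, fun z hz => absurd hz (Set.notMem_empty z)⟩
    haveI : Nonempty c := ⟨⟨E₀, hE₀⟩⟩
    have hdir : Directed (· ≤ ·) fun E : c => (E : IntermediateField K Ω') := hchain.directedOn.directed_val
    refine ⟨⨆ E : c, (E : IntermediateField K Ω'), ?_, fun E hE => le_iSup (fun E : c => (E : IntermediateField K Ω')) ⟨E, hE⟩⟩
    have key : ∀ z : ↥(⨆ E : c, (E : IntermediateField K Ω')), IsSumSq z →
        ∃ E : c, ∃ w : (E : IntermediateField K Ω'), IsSumSq w ∧ (w : Ω') = z := by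
      intro z hz
      induction hz with
      | zero => exact ⟨⟨E₀, hE₀⟩, 0, IsSumSq.zero, rfl⟩
      | @sq_add a z hz ih =>
        obtain ⟨E, w, hw, he⟩ := ih
        obtain ⟨E', hE'⟩ : ∃ E' : c, (a : Ω') ∈ (E' : IntermediateField K Ω') := by
          have := a.2
          rw [← SetLike.mem_coe, IntermediateField.coe_iSup_of_directed hdir] at this
          exact Set.mem_iUnion.1 this
        obtain ⟨G, hG, hG'⟩ := hdir E E'
        exact ⟨G, ⟨a, hG' hE'⟩ * ⟨a, hG' hE'⟩ + IntermediateField.inclusion hG w,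
          IsSumSq.sq_add _ (map_sumSq (IntermediateField.inclusion hG).toRingHom hw), by
            simp [he]⟩
    refine isSemireal_iff_not_isSumSq_neg_one.2 fun h => ?_
    obtain ⟨E, w, hw, he⟩ := key _ h
    exact isSemireal_iff_not_isSumSq_neg_one.1 (hc E.2)
      ((show w = -1 from Subtype.ext (he.trans (by simp))) ▸ hw)
  refine ⟨R, hR.prop, ⟨fun x hx => ?_⟩⟩
  have hle : R ≤ IntermediateField.restrictScalars K R⟮x⟯ := fun r hr =>
    IntermediateField.algebraMap_mem R⟮x⟯ (⟨r, hr⟩ : R)
  have hxm : x ∈ R := hR.le_of_ge (show IntermediateField.restrictScalars K R⟮x⟯ ∈ S from hx) hle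
    (IntermediateField.mem_adjoin_simple_self R x)
  exact ⟨⟨x, hxm⟩, rfl⟩

end Groth.L28.Serre.RealExt
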