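import Groth.Agent.L28.Serre.Link
import Mathlib.Data.ZMod.Basic

/-! # Reduction of coefficients of permutation sheaves -/

set_option autoImplicit false
set_option linter.style.haveILetI false
set_option linter.unusedSectionVars false
set_option backward.isDefEq.respectTransparency.types false

universe u

open CategoryTheory CategoryTheory.Limits AlgebraicGeometry Opposite CategoryTheory.Abelian

noncomputable section

namespace Groth.L28.Serre

open Groth.L27

variable {K : Type u} [Field K] {A : Type u} [CommRing A] [Algebra K A] [Algebra.Etale K A]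

theorem mk₀_nsmul_comp {C' : Type*} [Category C'] [Abelian C'] [HasExt C'] {F G : C'} {q : ℕ} (a : ℕ)
    (w : Ext F G q) : (Ext.mk₀ (a • 𝟙 F)).comp w (zero_add q) = a • w := by
  induction a with
  | zero => simp
  | succ a ih => simp [succ_nsmul, Ext.mk₀_add, Ext.add_comp, ih]

theorem comp_mk₀_nsmul {C' : Type*} [Category C'] [Abelian C'] [HasExt C'] {F G : C'} {q : ℕ} (a : ℕ)
    (w : Ext F G q) : w.comp (Ext.mk₀ (a • 𝟙 G)) (add_zero q) = a • w := by
  induction a with
  | zero => simp
  | succ a ih => simp [succ_nsmul, Ext.mk₀_add, Ext.comp_add, ih]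

variable (m : ℕ)

/-- The reduction map on coefficients. -/
def cst : ZMod 0 →+ ZMod m := Int.castAddHom (ZMod m)

/-- Reduction of coefficients on free presheaves. -/
def redPre {X : Scheme.{u}} (U : X.Etale) : pre 0 U ⟶ pre m U where
  app V := AddCommGrpCat.ofHom (AddEquiv.ulift.symm.toAddMonoidHom.comp
    ((Finsupp.mapRange.addMonoidHom (cst m)).comp AddEquiv.ulift.toAddMonoidHom))
  naturality {V W} f := by
    refine AddCommGrpCat.hom_ext (AddMonoidHom.ext fun z => ULift.ext _ _ ?_)
    show Finsupp.mapRange (cst m) (map_zero _) (z.down.mapDomain fun h => f.unop ≫ h) =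
      (Finsupp.mapRange (cst m) (map_zero _) z.down).mapDomain fun h => f.unop ≫ h
    exact (Finsupp.mapDomain_mapRange _ z.down (cst m) (map_zero _) (map_add _)).symm

/-- Reduction of coefficients. -/
def red (A : Type u) [CommRing A] [Algebra K A] [Algebra.Etale K A] : P K 0 A ⟶ P K m A :=
  (presheafToSheaf (Spec (CommRingCat.of K)).smallEtaleTopology AddCommGrpCat.{u + 1}).map (redPre m (sp K A))

theorem basis_red {X : Scheme.{u}} (Φ : GrothendieckTopology.Point.{u} X.smallEtaleTopology) (U : X.Etale)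
    (z : (fibS Φ).obj (free 0 U)) :
    basis m Φ U ((fibS Φ).map ((presheafToSheaf X.smallEtaleTopology AddCommGrpCat.{u + 1}).map (redPre m U)) z) =
      Finsupp.mapRange (cst m) (map_zero _) (basis 0 Φ U z) := by
  haveI := isIso_toSheafify Φ (pre 0 U)
  obtain ⟨w, rfl⟩ := (ConcreteCategory.bijective_of_isIso
    ((fibP Φ).map (toSheafify X.smallEtaleTopology (pre 0 U)))).2 z
  rw [basis_toSheafify]
  have e : (fibS Φ).map ((presheafToSheaf X.smallEtaleTopology AddCommGrpCat.{u + 1}).map (redPre m U))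
      ((fibP Φ).map (toSheafify X.smallEtaleTopology (pre 0 U)) w) =
      (fibP Φ).map (toSheafify X.smallEtaleTopology (pre m U)) ((fibP Φ).map (redPre m U) w) :=
    ConcreteCategory.congr_hom (((fibP Φ).map_comp _ _).symm.trans
      ((congrArg (fibP Φ).map (toSheafify_naturality X.smallEtaleTopology (redPre m U)).symm).trans
        ((fibP Φ).map_comp _ _))) w
  rw [e, basis_toSheafify]
  have h : (fibP Φ).map (redPre m U) ≫ toFin m Φ U = toFin 0 Φ U ≫ AddCommGrpCat.ofHom
      (AddEquiv.ulift.symm.toAddMonoidHom.comp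
        ((Finsupp.mapRange.addMonoidHom (cst m)).comp AddEquiv.ulift.toAddMonoidHom)) := by
    refine Φ.presheafFiber_hom_ext fun V v => AddCommGrpCat.hom_ext (AddMonoidHom.ext fun z => ?_)
    show toFin m Φ U ((fibP Φ).map (redPre m U) (Φ.toPresheafFiber V v (pre 0 U) z)) =
      ⟨Finsupp.mapRange (cst m) (map_zero _) (toFin 0 Φ U (Φ.toPresheafFiber V v (pre 0 U) z)).down⟩
    rw [show (fibP Φ).map (redPre m U) (Φ.toPresheafFiber V v (pre 0 U) z) =
      Φ.toPresheafFiber V v (pre m U) ((redPre m U).app (op V) z) from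
        ConcreteCategory.congr_hom (Φ.toPresheafFiber_naturality (redPre m U) V v) z, toFin_to, toFin_to]
    exact ULift.ext _ _ (Finsupp.mapDomain_mapRange _ z.down (cst m) (map_zero _) (map_add _))
  exact congrArg ULift.down (ConcreteCategory.congr_hom h w)

theorem ev_red (z : (stk K).obj (P K 0 A)) :
    ev m A ((stk K).map (red m A) z) = Finsupp.mapRange (cst m) (map_zero _) (ev 0 A z) := by
  show Finsupp.equivMapDomain _ (basis m (pt K (SeparableClosure K)) (sp K A)
      ((fibS (pt K (SeparableClosure K))).map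
        ((presheafToSheaf _ AddCommGrpCat.{u + 1}).map (redPre m (sp K A))) z)) =
    Finsupp.mapRange _ _ (Finsupp.equivMapDomain _ (basis 0 (pt K (SeparableClosure K)) (sp K A) z))
  rw [basis_red]
  exact (Finsupp.ext fun φ => by simp)

theorem nsmul_comp_red : (m • 𝟙 (P K 0 A)) ≫ red m A = 0 := by
  refine hom_ext_stk fun z => (ev m A).injective ?_
  rw [Preadditive.nsmul_comp, Category.id_comp, stk_nsmul, map_nsmul, Functor.map_zero]
  exact (Finsupp.ext fun φ => by simp).trans (map_zero (ev m A)).symm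

theorem shortExact_red (hm : m ≠ 0) :
    (ShortComplex.mk (m • 𝟙 (P K 0 A)) (red m A) (nsmul_comp_red m)).ShortExact := by
  refine shortExact_of_stk _ ?_ ?_ ?_
  · intro a b hab
    replace hab : m • a = m • b := by simpa [stk_nsmul] using hab
    refine (ev 0 A).injective (Finsupp.ext fun φ => ?_)
    have h := DFunLike.congr_fun (congrArg (ev 0 A) hab) φ
    rw [map_nsmul, map_nsmul, Finsupp.smul_apply, Finsupp.smul_apply] at h
    exact smul_right_injective (ZMod 0) (show (m : ℤ) ≠ 0 by exact_mod_cast hm) (by simpa using h)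
  · intro y
    refine ⟨(ev 0 A).symm (Finsupp.mapRange (fun c : ZMod m => ((ZMod.cast c : ℤ) : ZMod 0)) ZMod.cast_zero (ev m A y)), ?_⟩
    refine (ev m A).injective (Finsupp.ext fun φ => ?_)
    rw [ev_red, AddEquiv.apply_symm_apply, Finsupp.mapRange_apply, Finsupp.mapRange_apply]
    exact ZMod.intCast_zmod_cast _
  · intro z hz
    replace hz := congrArg (ev m A) hz
    rw [ev_red, map_zero] at hz
    refine ⟨(ev 0 A).symm (Finsupp.mapRange (fun c : ZMod 0 => (Int.ediv c (m : ℤ) : ZMod 0)) (Int.zero_ediv _) (ev 0 A z)), ?_⟩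
    refine (ev 0 A).injective (Finsupp.ext fun φ => ?_)
    show ev 0 A ((stk K).map (m • 𝟙 (P K 0 A)) _) φ = _
    rw [stk_nsmul, CategoryTheory.Functor.map_id, map_nsmul, Finsupp.smul_apply]
    show m • ev 0 A ((ev 0 A).symm _) φ = _
    rw [AddEquiv.apply_symm_apply, Finsupp.mapRange_apply, nsmul_eq_mul]
    have h := DFunLike.congr_fun hz φ
    rw [Finsupp.mapRange_apply] at h
    exact Int.mul_ediv_cancel' ((ZMod.intCast_zmod_eq_zero_iff_dvd _ m).1 h)

/-- Extensions of a reduced permutation sheaf vanish above the cohomological dimension plus one. -/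
theorem subsingleton_ext_red {ℓ : ℕ} (hℓ : ℓ.Prime) {d : ℕ} (hm : m ≠ 0)
    (h : FieldTower.CdLE ℓ (Spec (CommRingCat.of A)) d) (C : EtCoh.Ab (Spec (CommRingCat.of K)))
    (hC : ℓ • 𝟙 C = 0) (q : ℕ) (hq : d + 1 < q) : Subsingleton (Ext.{u + 1} (P K m A) C q) := by
  obtain ⟨q, rfl⟩ : ∃ r, q = r + 1 := ⟨q - 1, by omega⟩
  refine subsingleton_of_forall_eq 0 fun x => ?_
  have hS := shortExact_red (K := K) (A := A) m hm
  obtain ⟨y, rfl⟩ := Ext.contravariant_sequence_exact₃ hS _ x
    ((subsingleton_ext_P (K := K) (A := A) hℓ h C hC (q + 1) (by omega)).elim _ _) (by omega : 1 + q = q + 1)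
  rw [(subsingleton_ext_P (K := K) (A := A) hℓ h C hC q (by omega)).elim y 0, Ext.comp_zero]

/-- Classes of the field inject into extensions of the reduced point. -/
theorem eq_zero_of_ext_red (hm : m ≠ 0) (C : EtCoh.Ab (Spec (CommRingCat.of K))) (hC : m • 𝟙 C = 0) (q : ℕ)
    (h : Subsingleton (Ext.{u + 1} (P K m K) C (q + 1))) : Subsingleton (EtCoh.H (Spec (CommRingCat.of K)) C q) := by
  obtain ⟨e⟩ := nonempty_extEquiv_top K C q
  suffices Subsingleton (Ext.{u + 1} (P K 0 K) C q) from e.symm.toEquiv.injective.subsingleton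
  refine subsingleton_of_forall_eq 0 fun y => ?_
  have hS := shortExact_red (K := K) (A := K) m hm
  have h0 : ∀ w : Ext.{u + 1} (P K 0 K) C q, (Ext.mk₀ (m • 𝟙 (P K 0 K))).comp w (zero_add q) = 0 := fun w => by
    rw [mk₀_nsmul_comp, ← comp_mk₀_nsmul, hC, Ext.mk₀_zero, Ext.comp_zero]
  obtain ⟨w, rfl⟩ := Ext.contravariant_sequence_exact₁ hS C y (by omega : 1 + q = q + 1) (h.elim _ _)
  exact h0 w

end Groth.L28.Serre
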