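import Groth.Agent.L28.Serre.Quad
import Groth.Agent.L28.Serre.Order
import Groth.Agent.L28.Serre.Red
import Groth.Agent.L28.Serre.Kummer
import Groth.Agent.L28.CdLower.Crit
import Groth.Agent.L28.CdLower.Chain
import Groth.Agent.L28.FieldCd.CdOne

/-! # One step of Serre's descent -/

set_option autoImplicit false
set_option linter.style.haveILetI false
set_option linter.unusedSectionVars false
set_option backward.isDefEq.respectTransparency.types false

universe u

open CategoryTheory CategoryTheory.Limits AlgebraicGeometry Opposite CategoryTheory.Abelian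

noncomputable section

namespace Groth.L28.Serre

open Groth.L27

variable {ℓ : ℕ}

/-- The bound from sheaves killed by the prime. -/
theorem cdLE_of_killed (hℓ : ℓ.Prime) (K : Type u) [Field K] (d : ℕ)
    (h : ∀ C : EtCoh.Ab (Spec (CommRingCat.of K)), ℓ • 𝟙 C = 0 →
      Subsingleton (EtCoh.H (Spec (CommRingCat.of K)) C (d + 1))) :
    FieldTower.CdLE ℓ (Spec (CommRingCat.of K)) d := by
  haveI : Fact ℓ.Prime := ⟨hℓ⟩
  intro F hF q hq
  refine Devissage.of_constructible hℓ q (fun C _ hC => subsingleton_of_forall_eq 0 fun x => ?_) F hF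
  refine FieldCd.cd_le K ℓ d (fun G hG y => (h G hG).elim _ _) C
    (AffineEfface.isTorsion_of_isLTorsion
      (DerBC.Killed.isLTorsion ⟨ℓ ^ 1, FinCovCrit.primesIn_pow hℓ 1, by rwa [pow_one]⟩)) q hq x ⟨1, ?_⟩
  rw [pow_one]
  exact (Groth.L28.EtTrace.comp_mk₀_nsmul ℓ q x).symm.trans
    (by rw [hC, Ext.mk₀_zero, Ext.comp_zero])

/-- In residue characteristic `ℓ` the cohomological dimension is at most one. -/
theorem cdLE_one_of_char (hℓ : ℓ.Prime) (K : Type u) [Field K] (hK : (ℓ : K) = 0) :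
    FieldTower.CdLE ℓ (Spec (CommRingCat.of K)) 1 := by
  haveI : Fact ℓ.Prime := ⟨hℓ⟩
  refine cdLE_of_killed hℓ K 1 fun C hC => subsingleton_of_forall_eq 0 fun x => ?_
  refine FieldCd.cd_one ℓ K (fun E _ _ _ _ h => absurd hK h) C
    (AffineEfface.isTorsion_of_isLTorsion
      (DerBC.Killed.isLTorsion ⟨ℓ ^ 1, FinCovCrit.primesIn_pow hℓ 1, by rwa [pow_one]⟩)) 2 (by omega) x ⟨1, ?_⟩
  rw [pow_one]
  exact (Groth.L28.EtTrace.comp_mk₀_nsmul ℓ 2 x).symm.trans
    (by rw [hC, Ext.mk₀_zero, Ext.comp_zero])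

theorem exists_generator {K L : Type u} [Field K] [Field L] [Algebra K L] [FiniteDimensional K L]
    [IsCyclic (L ≃ₐ[K] L)] : ∃ σ : L ≃ₐ[K] L, ∀ τ, τ ∈ Subgroup.zpowers σ := IsCyclic.exists_generator

/-- Injectivity of periodicity for a cyclic extension. -/
theorem eq_zero_of_double_zero (hℓ : ℓ.Prime) {K L : Type u} [Field K] [Field L] [Algebra K L]
    [FiniteDimensional K L] [IsGalois K L] [Algebra.Etale K L] (σ : L ≃ₐ[K] L)
    (hσ : ∀ τ, τ ∈ Subgroup.zpowers σ) {d : ℕ} (h : FieldTower.CdLE ℓ (Spec (CommRingCat.of L)) d)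
    (C : EtCoh.Ab (Spec (CommRingCat.of K))) (hC : ℓ • 𝟙 C = 0) (q : ℕ) (hq : d < q)
    (hz : ∀ x : Ext.{u + 1} (P K 0 K) C q, (four 0 σ hσ).double C q x = 0) :
    Subsingleton (EtCoh.H (Spec (CommRingCat.of K)) C q) := by
  obtain ⟨e⟩ := nonempty_extEquiv_top K C q
  haveI : Subsingleton (Ext.{u + 1} (P K 0 K) C q) := subsingleton_of_forall_eq 0 fun x =>
    (four 0 σ hσ).eq_zero_of_double C q (subsingleton_ext_P hℓ h C hC q hq)
      (subsingleton_ext_P hℓ h C hC (q + 1) (by omega)) x (hz x)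
  exact e.symm.toEquiv.injective.subsingleton

/-- The step in residue characteristic `ℓ`. -/
theorem step_char (hℓ : ℓ.Prime) {K L : Type u} [Field K] [Field L] [Algebra K L] [FiniteDimensional K L]
    [IsGalois K L] [IsCyclic (L ≃ₐ[K] L)] (hK : (ℓ : K) = 0) {d : ℕ}
    (h : FieldTower.CdLE ℓ (Spec (CommRingCat.of L)) d) : FieldTower.CdLE ℓ (Spec (CommRingCat.of K)) d := by
  haveI := etale_field K L
  obtain ⟨σ, hσ⟩ := exists_generator (K := K) (L := L)
  refine cdLE_of_killed hℓ K d fun C hC => eq_zero_of_double_zero hℓ σ hσ h C hC (d + 1) (by omega) fun x => ?_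
  obtain ⟨e⟩ := nonempty_extEquiv_top K C (d + 1 + 2)
  haveI : Subsingleton (EtCoh.H (Spec (CommRingCat.of K)) C (d + 1 + 2)) :=
    cdLE_one_of_char hℓ K hK C (DerBC.Killed.isLTorsion ⟨ℓ ^ 1, FinCovCrit.primesIn_pow hℓ 1, by rwa [pow_one]⟩)
      _ (by omega)
  exact e.injective (Subsingleton.elim _ _)

/-- The step for a Kummer extension that lifts to a cyclic extension of degree `ℓ²`. -/
theorem step_lift (hℓ : ℓ.Prime) {K L L' : Type u} [Field K] [Field L] [Algebra K L] [FiniteDimensional K L]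
    [IsGalois K L] [Field L'] [Algebra K L'] [FiniteDimensional K L'] [IsGalois K L'] [IsCyclic (L' ≃ₐ[K] L')]
    (hL : Module.finrank K L = ℓ) (hL' : Module.finrank K L' = ℓ * ℓ) (ι : L →ₐ[K] L') {d : ℕ}
    (h : FieldTower.CdLE ℓ (Spec (CommRingCat.of L)) d) : FieldTower.CdLE ℓ (Spec (CommRingCat.of K)) d := by
  haveI := etale_field K L
  haveI := etale_field K L'
  haveI : Fact ℓ.Prime := ⟨hℓ⟩
  obtain ⟨σ', hσ'⟩ := exists_generator (K := K) (L := L')
  letI := ι.toRingHom.toAlgebra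
  haveI : IsScalarTower K L L' := IsScalarTower.of_algebraMap_eq fun r => (ι.commutes r).symm
  haveI : Normal K L := IsGalois.to_normal
  let σ : L ≃ₐ[K] L := σ'.restrictNormal L
  have hcard : Nat.card (L ≃ₐ[K] L) = ℓ := by rw [IsGalois.card_aut_eq_finrank, hL]
  have hι : σ'.toAlgHom.comp ι = ι.comp σ.toAlgHom :=
    AlgHom.ext fun x => (σ'.restrictNormal_commutes L x).symm
  have hgen : ∀ τ : L ≃ₐ[K] L, τ ∈ Subgroup.zpowers σ := by
    intro τ
    obtain ⟨τ', hτ'⟩ := AlgEquiv.restrictNormalHom_surjective (F := K) (E := L') (K₁ := L) τ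
    obtain ⟨k, hk⟩ := Subgroup.mem_zpowers_iff.1 (hσ' τ')
    exact Subgroup.mem_zpowers_iff.2 ⟨k, by rw [← hτ', ← hk, map_zpow]; rfl⟩
  have hord : orderOf σ = ℓ := (orderOf_eq_card_of_forall_mem_zpowers hgen).trans hcard
  have hord' : orderOf σ' = ℓ * orderOf σ := by
    rw [hord, orderOf_eq_card_of_forall_mem_zpowers hσ', IsGalois.card_aut_eq_finrank, hL']
  refine cdLE_of_killed hℓ K d fun C hC => eq_zero_of_double_zero hℓ σ hgen h C hC (d + 1) (by omega) fun x => ?_
  exact double_eq_zero 0 σ hgen σ' hσ' ι hι ℓ hord' C (d + 1) x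
    (by rw [mk₀_nsmul_comp, ← comp_mk₀_nsmul, hC, Ext.mk₀_zero, Ext.comp_zero])

/-- The odd step with enough roots of unity. -/
theorem step_odd (hℓ : ℓ.Prime) (h2 : ℓ ≠ 2) {K L : Type u} [Field K] [Field L] [Algebra K L]
    [FiniteDimensional K L] [IsGalois K L] (hK : (ℓ : K) ≠ 0) (hL : Module.finrank K L = ℓ)
    (h0 : (primitiveRoots (ℓ ^ 2) K).Nonempty ∨
      ∃ (a : K) (α : L), IsPrimitiveRoot a ℓ ∧ α ^ ℓ = algebraMap K L a ∧ IntermediateField.adjoin K {α} = ⊤)
    {d : ℕ} (h : FieldTower.CdLE ℓ (Spec (CommRingCat.of L)) d) : FieldTower.CdLE ℓ (Spec (CommRingCat.of K)) d := by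
  haveI : Fact ℓ.Prime := ⟨hℓ⟩
  obtain ⟨a, α, hα, htop, hh⟩ : ∃ (a : K) (α : L), α ^ ℓ = algebraMap K L a ∧
      IntermediateField.adjoin K {α} = ⊤ ∧ ((primitiveRoots (ℓ ^ 2) K).Nonempty ∨ IsPrimitiveRoot a ℓ) := by
    rcases h0 with h0 | ⟨a, α, ha, hα, htop⟩
    · obtain ⟨ζ, hζ⟩ := h0
      rw [mem_primitiveRoots (pow_pos hℓ.pos 2)] at hζ
      have hζ' : IsPrimitiveRoot (ζ ^ ℓ) ℓ := hζ.pow (pow_pos hℓ.pos 2) (by rw [pow_two])
      haveI : IsCyclic (L ≃ₐ[K] L) := isCyclic_of_prime_card (p := ℓ) (by rw [IsGalois.card_aut_eq_finrank, hL])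
      obtain ⟨α, ⟨a, ha⟩, htop⟩ := exists_root_adjoin_eq_top_of_isCyclic K L
        ⟨ζ ^ ℓ, by rw [hL, mem_primitiveRoots hℓ.pos]; exact hζ'⟩
      exact ⟨a, α, by rw [ha, hL], htop, Or.inl ⟨ζ, by rw [mem_primitiveRoots (pow_pos hℓ.pos 2)]; exact hζ⟩⟩
    · exact ⟨a, α, hα, htop, Or.inr ha⟩
  have hne : ∀ b : K, b ^ ℓ ≠ a :=
    pow_ne_of_irreducible_X_pow_sub_C (n := ℓ)
      (by
        have h' := irreducible_X_pow_sub_C_of_root_adjoin_eq_top (a := a) (α := α) (by rw [hL, hα]) htop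
        rwa [hL] at h') dvd_rfl hℓ.ne_one
  obtain ⟨L', _, _, _, _, _, θ, hdeg, hθ⟩ := exists_cyclic_sq hℓ h2 hne hh hK
  obtain ⟨ι, -⟩ := exists_algHom_of_root (a := a) (α := α) (by rw [hL, hα]) htop (θ ^ ℓ)
    (by rw [hL, ← pow_mul, hθ])
  exact step_lift hℓ hL hdeg ι h

/-- The quadratic step. -/
theorem step_two {K L : Type u} [Field K] [Field L] [Algebra K L] [FiniteDimensional K L] [IsGalois K L]
    [NeZero (2 : K)] (hL : Module.finrank K L = 2)
    (hord : ¬ ∃ _ : LinearOrder K, IsStrictOrderedRing K) {d : ℕ}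
    (h : FieldTower.CdLE 2 (Spec (CommRingCat.of L)) d) : FieldTower.CdLE 2 (Spec (CommRingCat.of K)) d := by
  haveI : Fact (Nat.Prime 2) := ⟨Nat.prime_two⟩
  haveI : IsCyclic (L ≃ₐ[K] L) := isCyclic_of_prime_card (p := 2) (by rw [IsGalois.card_aut_eq_finrank, hL])
  obtain ⟨α, ⟨a₀, ha₀⟩, htop⟩ := exists_root_adjoin_eq_top_of_isCyclic K L
    ⟨-1, by
      rw [hL, mem_primitiveRoots two_pos]
      exact IsPrimitiveRoot.iff_orderOf.2 (orderOf_eq_prime (by norm_num) fun h => NeZero.ne (2 : K) (by linear_combination -h))⟩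
  rw [hL] at ha₀
  have ha : a₀ ≠ 0 := by
    rintro rfl
    rw [map_zero] at ha₀
    rw [pow_eq_zero_iff two_ne_zero |>.1 ha₀.symm, IntermediateField.adjoin_zero] at htop
    have h1 : Module.finrank K (⊥ : IntermediateField K L) = Module.finrank K L := by
      rw [htop]; exact IntermediateField.finrank_top'
    rw [IntermediateField.finrank_bot, hL] at h1
    omega
  let a : Kˣ := Units.mk0 a₀ ha
  have hf : Function.Surjective (qRoot a α (by rw [← pow_two]; exact ha₀.symm) : Q a →ₐ[K] L) := by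
    intro x
    have hx : x ∈ Algebra.adjoin K {α} := by
      rw [← IntermediateField.adjoin_simple_toSubalgebra_of_isAlgebraic (IsAlgebraic.of_finite K α), htop]
      trivial
    have hle : Algebra.adjoin K {α} ≤ (qRoot a α (by rw [← pow_two]; exact ha₀.symm)).range :=
      Algebra.adjoin_le (by rintro _ rfl; exact ⟨qX a, qRoot_qX a _ _⟩)
    exact hle hx
  obtain ⟨g, hg⟩ := exists_algHom_of_root (a := a₀) (α := α) (by rw [hL]; exact ha₀.symm) htop (qX a)
    (by rw [hL, pow_two]; exact qX_sq a)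
  have hgf : g.comp (qRoot a α (by rw [← pow_two]; exact ha₀.symm)) = AlgHom.id K (Q a) :=
    q_ext (by rw [AlgHom.comp_apply, qRoot_qX, hg]; rfl)
  have hQ : FieldTower.CdLE 2 (Spec (CommRingCat.of (Q a))) d := by
    have hbij : Function.Bijective (qRoot a α (by rw [← pow_two]; exact ha₀.symm) : Q a →ₐ[K] L) :=
      ⟨Function.LeftInverse.injective (g := g) fun x => DFunLike.congr_fun hgf x, hf⟩
    let e : Q a ≃+* L := RingEquiv.ofBijective _ hbij
    let π := Spec.map (CommRingCat.ofHom (e.symm : L →+* Q a))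
    haveI : IsIntegralHom π := IsIntegralHom.SpecMap_iff.2
      (RingHom.isIntegral_of_surjective _ e.symm.surjective)
    exact h.of_integral π
  refine cdLE_of_killed Nat.prime_two K d fun C hC => ?_
  refine eq_zero_of_ext_red 2 two_ne_zero C hC (d + 1) (not_nontrivial_iff_subsingleton.1 fun hnt => hord ?_)
  have hsub : ∀ n, d + 1 < n → Subsingleton (Ext.{u + 1} (P K 2 (Q a)) C n) := fun n hn =>
    subsingleton_ext_red (K := K) (A := Q a) 2 Nat.prime_two two_ne_zero hQ C hC n hn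
  let T : ∀ (n : ℕ), Kˣ → Ext.{u + 1} (P K 2 K) C n →+ Ext.{u + 1} (P K 2 K) C (n + 1) := fun n b =>
    (cls b).precomp C (show 1 + n = n + 1 by omega)
  have hbij : ∀ n, d + 1 < n → Function.Bijective (T n a) := by
    intro n hn
    have hS := (qCover a).shortExact
    constructor
    · refine (injective_iff_map_eq_zero _).2 fun x hx => ?_
      obtain ⟨y, hy⟩ := Ext.contravariant_sequence_exact₁ hS C x (show 1 + n = n + 1 by omega) hx
      rw [← hy, (hsub n hn).elim y 0, Ext.comp_zero]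
    · intro x
      exact Ext.contravariant_sequence_exact₃ hS C x ((hsub (n + 1) (by omega)).elim _ _) (show 1 + n = n + 1 by omega)
  have htwo : ∀ n (x : Ext.{u + 1} (P K 2 K) C n), x + x = 0 := fun n x => by
    rw [← two_nsmul, ← comp_mk₀_nsmul, hC, Ext.mk₀_zero, Ext.comp_zero]
  haveI := hnt
  exact Order.exists_order_of_periodic (T (d + 1 + 1)) (T (d + 1 + 1 + 1)) a (hbij _ (by omega)) (hbij _ (by omega))
    (fun b c => AddMonoidHom.ext fun x => by simp [T, cls_mul])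
    (fun b c => AddMonoidHom.ext fun x => by simp [T, cls_mul])
    (htwo _) (htwo _) (fun b c hbc x => by
      show (cls b).comp ((cls c).comp x (show 1 + (d + 1 + 1) = d + 1 + 1 + 1 by omega))
        (show 1 + (d + 1 + 1 + 1) = d + 1 + 1 + 1 + 1 by omega) = 0
      rw [← Ext.comp_assoc (a₁₂ := 2) _ _ _ (show 1 + 1 = 2 from rfl) _ (by omega), cls_steinberg hbc, Ext.zero_comp])

end Groth.L28.Serre
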