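import Groth.Agent.L28.Serre.Perm
import Mathlib.Algebra.CharP.Two
import Mathlib.Algebra.Homology.DerivedCategory.Ext.ExtClass
import Mathlib.FieldTheory.IsSepClosed

/-! # Sequences modulo two of twofold covers -/

set_option autoImplicit false
set_option linter.style.haveILetI false
set_option linter.unusedSectionVars false
set_option backward.isDefEq.respectTransparency.types false

universe u

open CategoryTheory CategoryTheory.Limits AlgebraicGeometry Opposite

noncomputable section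

namespace Groth.L28.Serre

variable {K : Type u} [Field K]

/-- A twofold cover of étale algebras. -/
structure Twofold (B A : Type u) [CommRing B] [Algebra K B] [Algebra.Etale K B] [CommRing A] [Algebra K A]
    [Algebra.Etale K A] where
  /-- the cover -/
  i : B →ₐ[K] A
  /-- the involution -/
  τ : A →ₐ[K] A
  comp_i : τ.comp i = i
  fib : ∀ φ ψ : A →ₐ[K] SeparableClosure K, ψ.comp i = φ.comp i → ψ = φ ∨ ψ = φ.comp τ
  free : ∀ φ : A →ₐ[K] SeparableClosure K, φ.comp τ ≠ φ
  surj : ∀ β : B →ₐ[K] SeparableClosure K, ∃ φ : A →ₐ[K] SeparableClosure K, φ.comp i = β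

variable {B A : Type u} [CommRing B] [Algebra K B] [Algebra.Etale K B] [CommRing A] [Algebra K A] [Algebra.Etale K A]
  (T : Twofold (K := K) B A)

theorem Twofold.comp_τ_i (φ : A →ₐ[K] SeparableClosure K) : (φ.comp T.τ).comp T.i = φ.comp T.i := by
  rw [AlgHom.comp_assoc, T.comp_i]

theorem Twofold.τ_τ (φ : A →ₐ[K] SeparableClosure K) : (φ.comp T.τ).comp T.τ = φ := by
  rcases T.fib φ ((φ.comp T.τ).comp T.τ) (by rw [T.comp_τ_i, T.comp_τ_i]) with h | h
  · exact h
  · exact absurd h (T.free _)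

/-- The norm. -/
def Twofold.ν : P K 2 A ⟶ P K 2 A := 𝟙 _ + pmap 2 T.τ

theorem Twofold.ev_ν (z : (stk K).obj (P K 2 A)) (φ : A →ₐ[K] SeparableClosure K) :
    ev 2 A ((stk K).map T.ν z) φ = ev 2 B ((stk K).map (pmap 2 T.i) z) (φ.comp T.i) := by
  classical
  rw [← wt_delta, ← wt_delta, Twofold.ν, stk_add, CategoryTheory.Functor.map_id, map_add, wt_pmap, wt_pmap]
  show wt 2 A _ z + _ = _
  rw [← wt_add]
  refine congrArg (fun h => wt 2 A h z) (funext fun ψ => ?_)
  by_cases h1 : ψ.comp T.i = φ.comp T.i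
  · rw [if_pos h1]
    rcases T.fib φ ψ h1 with rfl | rfl
    · rw [if_pos rfl, if_neg (T.free _), add_zero]
    · rw [if_neg (T.free φ), if_pos (T.τ_τ φ), zero_add]
  · rw [if_neg h1, if_neg (fun h => h1 (by rw [h])), if_neg (fun h => h1 (by rw [← h, T.comp_τ_i])), add_zero]

theorem Twofold.surjective_π : Function.Surjective ((stk K).map (pmap 2 T.i)) := by
  intro y
  refine ⟨(ev 2 A).symm ((ev 2 B y).mapDomain fun β => (T.surj β).choose), (ev 2 B).injective ?_⟩
  rw [ev_pmap, AddEquiv.apply_symm_apply, ← Finsupp.mapDomain_comp]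
  exact (congrArg (fun k => (ev 2 B y).mapDomain k) (funext fun β => (T.surj β).choose_spec)).trans Finsupp.mapDomain_id

theorem Twofold.epi_π : Epi (pmap 2 T.i) := epi_of_stk _ T.surjective_π

theorem Twofold.exists_j : ∃ j : P K 2 B ⟶ P K 2 A, pmap 2 T.i ≫ j = T.ν :=
  haveI := T.epi_π
  exists_factor _ _ fun z hz => (ev 2 A).injective (Finsupp.ext fun φ => by
    rw [T.ev_ν, hz, map_zero, map_zero]; rfl)

/-- The inclusion. -/
def Twofold.j : P K 2 B ⟶ P K 2 A := T.exists_j.choose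

theorem Twofold.ev_j (y : (stk K).obj (P K 2 B)) (φ : A →ₐ[K] SeparableClosure K) :
    ev 2 A ((stk K).map T.j y) φ = ev 2 B y (φ.comp T.i) := by
  obtain ⟨z, rfl⟩ := T.surjective_π y
  rw [← stk_comp, Twofold.j, T.exists_j.choose_spec, T.ev_ν]

theorem Twofold.j_π : T.j ≫ pmap 2 T.i = 0 := by
  classical
  refine hom_ext_stk fun y => (ev 2 B).injective (Finsupp.ext fun β => ?_)
  rw [stk_comp, Functor.map_zero, ← wt_delta, wt_pmap]
  refine Eq.trans ?_ (congrArg (fun z : (B →ₐ[K] SeparableClosure K) →₀ ZMod 2 => z β) (map_zero (ev 2 B))).symm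
  obtain ⟨φ, rfl⟩ := T.surj β
  have h : (fun ψ : A →ₐ[K] SeparableClosure K => if ψ.comp T.i = φ.comp T.i then (1 : ZMod 2) else 0) =
      fun ψ => (if ψ = φ then 1 else 0) + (if ψ = φ.comp T.τ then 1 else 0) := by
    funext ψ
    by_cases h1 : ψ.comp T.i = φ.comp T.i
    · rw [if_pos h1]
      rcases T.fib φ ψ h1 with rfl | rfl
      · rw [if_pos rfl, if_neg (fun h => T.free ψ h.symm), add_zero]
      · rw [if_neg (T.free φ), if_pos rfl, zero_add]
    · rw [if_neg h1, if_neg (fun h => h1 (by rw [h])), if_neg (fun h => h1 (by rw [h, T.comp_τ_i])), add_zero]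
  rw [h, wt_add, wt_delta, wt_delta, T.ev_j, T.ev_j, T.comp_τ_i]
  exact CharTwo.add_self_eq_zero _

theorem Twofold.exact_π (z : (stk K).obj (P K 2 A)) (hz : (stk K).map (pmap 2 T.i) z = 0) :
    ∃ y, (stk K).map T.j y = z := by
  classical
  have hinj : Set.InjOn (fun β => (T.surj β).choose)
      ((fun β => (T.surj β).choose) ⁻¹' ↑(ev 2 A z).support) := fun a _ b _ h =>
    (T.surj a).choose_spec.symm.trans ((congrArg (fun φ : A →ₐ[K] SeparableClosure K => φ.comp T.i) h).trans
      (T.surj b).choose_spec)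
  refine ⟨(ev 2 B).symm ((ev 2 A z).comapDomain _ hinj), (ev 2 A).injective (Finsupp.ext fun φ => ?_)⟩
  rw [T.ev_j, AddEquiv.apply_symm_apply, Finsupp.comapDomain_apply]
  rcases T.fib φ (T.surj (φ.comp T.i)).choose (T.surj (φ.comp T.i)).choose_spec with h | h
  · rw [h]
  · rw [h]
    have h0 := T.ev_ν z φ
    rw [hz, map_zero, Finsupp.coe_zero, Pi.zero_apply, Twofold.ν, stk_add, CategoryTheory.Functor.map_id, map_add,
      Finsupp.add_apply, ← wt_delta 2 φ ((stk K).map (pmap 2 T.τ) z), wt_pmap] at h0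
    have h' : (fun ψ : A →ₐ[K] SeparableClosure K => if ψ.comp T.τ = φ then (1 : ZMod 2) else 0) =
        fun ψ => if ψ = φ.comp T.τ then 1 else 0 := funext fun ψ =>
      if_congr ⟨fun e => by rw [← e, T.τ_τ], fun e => by rw [e, T.τ_τ]⟩ rfl rfl
    rw [h', wt_delta] at h0
    exact (CharTwo.add_eq_zero.1 h0).symm

theorem Twofold.injective_j : Function.Injective ((stk K).map T.j) := fun a b h =>
  (ev 2 B).injective (Finsupp.ext fun β => by
    obtain ⟨φ, rfl⟩ := T.surj β
    rw [← T.ev_j, ← T.ev_j, h])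

theorem Twofold.shortExact : (ShortComplex.mk T.j (pmap 2 T.i) T.j_π).ShortExact :=
  shortExact_of_stk _ T.injective_j T.surjective_π T.exact_π

/-- The class of the cover. -/
def Twofold.ξ : Abelian.Ext.{u + 1} (P K 2 B) (P K 2 B) 1 := T.shortExact.extClass

/-- Factorisation through the inclusion. -/
theorem Twofold.exists_lift {G : EtCoh.Ab (Spec (CommRingCat.of K))} (k : G ⟶ P K 2 A) (hk : k ≫ pmap 2 T.i = 0) :
    ∃ g : G ⟶ P K 2 B, g ≫ T.j = k :=
  haveI : Mono (ShortComplex.mk T.j (pmap 2 T.i) T.j_π).f := T.shortExact.mono_f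
  ⟨T.shortExact.exact.lift k hk, T.shortExact.exact.lift_f k hk⟩

end Groth.L28.Serre
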